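import Cfsg.Agent.HeckeCentre82.AtQ
import Cfsg.Agent.ChevNormal82.Main
import Cfsg.Agent.Lib.ChevCore.Models

/-!
The seven Chevalley data.
-/

set_option autoImplicit false

namespace Cfsg.Agent.HeckeCentre82

open Cfsg Cfsg.Agent.ChevGroup Cfsg.Agent.ChevCore

/-- Isomorphic groups have equally many classes. -/
theorem card_conjClasses_congr {W W' : Type*} [Group W] [Group W'] (e : W ≃* W') :
    Nat.card (ConjClasses W) = Nat.card (ConjClasses W') := by
  refine Nat.card_congr (Equiv.ofBijective (ConjClasses.map e.toMonoidHom) ⟨?_, ?_⟩)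
  · intro a b h
    induction a using Quotient.inductionOn with
    | _ a =>
      induction b using Quotient.inductionOn with
      | _ b =>
        have h1 : ConjClasses.mk (e a) = ConjClasses.mk (e b) := h
        rw [ConjClasses.mk_eq_mk_iff_isConj] at h1
        have h2 := e.symm.toMonoidHom.map_isConj h1
        simp only [MulEquiv.coe_toMonoidHom, MulEquiv.symm_apply_apply] at h2
        exact ConjClasses.mk_eq_mk_iff_isConj.2 h2
  · intro c
    obtain ⟨y, rfl⟩ := ConjClasses.mk_surjective c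
    exact ⟨ConjClasses.mk (e.symm y), congrArg ConjClasses.mk (e.apply_symm_apply y)⟩

universe u

theorem chevalley_card {F : Type u} [Field F] [Fintype F] (D : Cfsg.Lie.ChevalleyDatum)
    (hD : D ∈ [Cfsg.Lie.chevG2, Cfsg.Lie.chevB2, Cfsg.Lie.chevD4, Cfsg.Lie.chevF4, Cfsg.Lie.chevE6,
      Cfsg.Lie.chevE7, Cfsg.Lie.chevE8])
    {W : Type*} [Group W] (φ : ↥(D.monomialSubgroup F) →* W) (hφ : Function.Surjective φ)
    (hker : φ.ker = (D.diagonalSubgroup F).subgroupOf (D.monomialSubgroup F)) :
    Nat.card {χ : Cfsg.IrrCharacter ↥(D.group F) //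
      ∃ ψ : ↥(D.group F) → ℂ, Cfsg.IsCharacter ↥(D.group F) ψ ∧
        Cfsg.fixedPointCharacter ((D.borelSubgroup F).subgroupOf (D.group F)) =
          (χ : ↥(D.group F) → ℂ) + ψ} =
      Nat.card (ConjClasses W) := by
  classical
  obtain ⟨T, ⟨wit, hwit⟩, -⟩ := exists_model hD
  have hC := commGood_of_mem hD
  set K := Cfsg.Agent.Chev54.rels hC F
  set R := T.rel K
  set M := T.shapeR K
  have hinj : Function.Injective T.S.simple := fun i j h => Fin.ext
    (hC.toGood.simple_inj (T.lt_l i) (T.lt_l j) (by rw [← T.simple_eq, ← T.simple_eq, h]))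
  obtain ⟨P, hB, hN, hS⟩ := exists_bnPair M (fun r t => T.x_ne _ r t)
    (T.group_top K hwit) hinj
  have hB' : P.B = (D.borelSubgroup F).subgroupOf (D.group F) := by
    rw [hB, ← T.B_map K, Subgroup.subgroupOf,
      Subgroup.comap_map_eq_self_of_injective Subtype.coe_injective]
  have : Finite ↥(D.group F) := inferInstance
  have := Fintype.ofFinite ↥(D.group F)
  have hq : ∀ s ∈ P.S, Steinberg.cardC P s = Nat.card F := by
    rw [hS]
    rintro _ ⟨i, rfl⟩
    have hT : ∀ r t, T.S.pos r → M.Pres T.S.pos (R.x r t) := fun r t hr =>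
      Cfsg.Agent.ChevNormal82.pres_pos T K (R.x_mem_B hr t)
    have hw : R.nw [i] = R.n i := by rw [R.nw_cons, R.nw_nil, mul_one]
    have h1 := M.card_cell_word hT [i] fun v j u e => by
      rcases v with _ | ⟨a, v⟩
      · simp only [List.nil_append, List.cons.injEq] at e
        obtain ⟨rfl, rfl⟩ := e
        exact T.S.simple_pos i
      · simp at e
    rw [hw, List.length_singleton, pow_one] at h1
    rw [← h1, Steinberg.cardC]
    refine Nat.card_congr (Equiv.subtypeEquiv (Subgroup.quotientEquivOfEq hB) fun z => ?_)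
    induction z using QuotientGroup.induction_on with
    | H y =>
      show (y : ↥(D.group F) ⧸ P.B) ∈ Steinberg.sch P (R.n i) ↔ _
      rw [Steinberg.mk_mem_sch, BN.mem_cell, Subgroup.quotientEquivOfEq_mk]
      show _ ↔ (y : ↥(D.group F) ⧸ R.B) ∈ ChevGroup.cell R.B R.B (R.n i)
      rw [ChevGroup.mem_cell, hB]
      constructor
      · rintro ⟨b, hb, b', hb', rfl⟩
        exact ⟨b, hb, QuotientGroup.eq.2 (by
          rw [show (b * R.n i)⁻¹ * (b * R.n i * b') = b' by group]; exact hb')⟩
      · rintro ⟨b, hb, e⟩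
        exact ⟨b, hb, _, QuotientGroup.eq.1 e, (mul_inv_cancel_left _ _).symm⟩
  rw [← hB', card_constituents_eq P hq Nat.card_pos]
  have hmem : ∀ n : ↥P.N, ((n : ↥(D.group F)) : GL D.Idx F) ∈ D.monomialSubgroup F := fun n => by
    rw [← N_map T hC]
    exact ⟨n, hN ▸ n.2, rfl⟩
  let ι : ↥P.N →* ↥(D.monomialSubgroup F) :=
    (((D.group F).subtype).comp P.N.subtype).codRestrict _ hmem
  have hsurj : Function.Surjective (φ.comp ι) := by
    intro y
    obtain ⟨m, rfl⟩ := hφ y
    have hm := m.2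
    obtain ⟨n, hn, e⟩ := (N_map T hC).symm.le hm
    refine ⟨⟨n, hN.symm ▸ hn⟩, ?_⟩
    show φ _ = φ m
    congr 1
    exact Subtype.ext e
  have hk : (φ.comp ι).ker = P.B.subgroupOf P.N := by
    ext n
    rw [← MonoidHom.comap_ker, Subgroup.mem_comap, hker, Subgroup.mem_subgroupOf,
      Subgroup.mem_subgroupOf, hB', Subgroup.mem_subgroupOf, ← borel_inf_monomial hD]
    exact ⟨fun h => h.1, fun h => ⟨h, hmem n⟩⟩
  exact card_conjClasses_congr ((QuotientGroup.quotientMulEquivOfEq hk.symm).trans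
    (QuotientGroup.quotientKerEquivOfSurjective _ hsurj))

end Cfsg.Agent.HeckeCentre82
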