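import Cfsg.Agent.Lib.BlocksCore.Ring
import Cfsg.Agent.Lib.Steinberg.Alternating
import Cfsg.Agent.GLFlag.UnipotentIrr
import Cfsg.Agent.Lib.CharCore.Virtual
import Mathlib.LinearAlgebra.Dimension.Finite

/-!
The centre of the algebra of biinvariant functions has one dimension for each constituent of the
permutation character on the cosets.
-/

set_option autoImplicit false
set_option linter.unusedSectionVars false

namespace Cfsg.Agent.HeckeCentre82

open scoped ComplexConjugate
open Cfsg Cfsg.Agent.BlocksCore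

variable {G : Type*} [Group G] [Fintype G]

theorem conv_assoc (a b c : G → ℂ) : conv (conv a b) c = conv a (conv b c) := by
  funext x
  simp only [conv_apply, Finset.sum_mul, Finset.mul_sum]
  rw [Finset.sum_comm]
  refine Finset.sum_congr rfl fun y _ => Fintype.sum_equiv (Equiv.mulLeft y⁻¹) _ _ fun z => ?_
  rw [Equiv.coe_mulLeft, show (y⁻¹ * z)⁻¹ * (y⁻¹ * x) = z⁻¹ * x by group, mul_assoc]

theorem conv_smul_left (c : ℂ) (a b : G → ℂ) : conv (c • a) b = c • conv a b := by
  funext x
  simp [conv_apply, Finset.mul_sum, mul_assoc]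

theorem conv_smul_right (c : ℂ) (a b : G → ℂ) : conv a (c • b) = c • conv a b := by
  funext x
  simp [conv_apply, Finset.mul_sum, mul_left_comm]

theorem conv_add_left (a a' b : G → ℂ) : conv (a + a') b = conv a b + conv a' b := by
  funext x
  simp [conv_apply, add_mul, Finset.sum_add_distrib]

theorem conv_add_right (a b b' : G → ℂ) : conv a (b + b') = conv a b + conv a b' := by
  funext x
  simp [conv_apply, mul_add, Finset.sum_add_distrib]

theorem conv_sum_left {ι : Type*} (s : Finset ι) (a : ι → G → ℂ) (b : G → ℂ) :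
    conv (∑ i ∈ s, a i) b = ∑ i ∈ s, conv (a i) b := by
  funext x
  simp only [conv_apply, Finset.sum_apply, Finset.sum_mul]
  exact Finset.sum_comm

theorem conv_sum_right {ι : Type*} (s : Finset ι) (a : ι → G → ℂ) (b : G → ℂ) :
    conv b (∑ i ∈ s, a i) = ∑ i ∈ s, conv b (a i) := by
  funext x
  simp only [conv_apply, Finset.sum_apply, Finset.mul_sum]
  exact Finset.sum_comm

theorem conv_zero_left (b : G → ℂ) : conv 0 b = 0 := by
  funext x
  simp [conv_apply]

theorem conv_classFun_comm {a : G → ℂ} (ha : IsClassFunction G a) (b : G → ℂ) :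
    conv a b = conv b a := by
  funext x
  simp only [conv_apply]
  refine Fintype.sum_equiv ((Equiv.inv G).trans (Equiv.mulRight x)) _ _ fun y => ?_
  simp only [Equiv.trans_apply, Equiv.inv_apply, Equiv.coe_mulRight]
  rw [mul_comm, show (y⁻¹ * x)⁻¹ * x = x⁻¹ * y * x⁻¹⁻¹ by group, ha]

theorem conv_inv (a b : G → ℂ) (x : G) :
    conv a b x⁻¹ = conv (fun y => b y⁻¹) (fun y => a y⁻¹) x := by
  simp only [conv_apply]
  refine Fintype.sum_equiv (Equiv.mulLeft x) _ _ fun y => ?_
  simp only [Equiv.coe_mulLeft]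
  rw [mul_comm (b (x * y)⁻¹), show ((x * y)⁻¹ * x)⁻¹ = y by group,
    show (x * y)⁻¹ = y⁻¹ * x⁻¹ by group]

/-- The point mass. -/
noncomputable def pt (g : G) : G → ℂ := by
  classical exact fun x => if x = g then 1 else 0

theorem conv_pt_left (g : G) (b : G → ℂ) (x : G) : conv (pt g) b x = b (g⁻¹ * x) := by
  classical
  rw [conv_apply, Finset.sum_eq_single g]
  · simp [pt]
  · intro y _ hy; simp [pt, hy]
  · simp

theorem conv_pt_right (g : G) (a : G → ℂ) (x : G) : conv a (pt g) x = a (x * g⁻¹) := by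
  classical
  rw [conv_apply, Finset.sum_eq_single (x * g⁻¹)]
  · simp [pt, mul_assoc]
  · intro y _ hy
    have : ¬ y⁻¹ * x = g := fun e => hy (by rw [← e]; group)
    simp [pt, this]
  · simp

theorem pt_one_conv (a : G → ℂ) : conv (pt 1) a = a := by
  funext x; simp [conv_pt_left]

theorem conv_pt_one (a : G → ℂ) : conv a (pt 1) = a := by
  funext x; simp [conv_pt_right]

theorem isClassFunction_pt_one : IsClassFunction G (pt (1 : G)) := by
  classical
  intro g h
  by_cases hg : g = 1
  · simp [hg]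
  · simp [pt, hg, conj_eq_one_iff]

variable (B : Subgroup G) [Fintype B]

/-- The averaging idempotent of `B`. -/
noncomputable def eB : G → ℂ := (B : Set G).indicator fun _ => (Nat.card B : ℂ)⁻¹

theorem eB_of_mem {x : G} (h : x ∈ B) : eB B x = (Nat.card B : ℂ)⁻¹ :=
  Set.indicator_of_mem (s := (B : Set G)) h _

theorem eB_of_notMem {x : G} (h : x ∉ B) : eB B x = 0 :=
  Set.indicator_of_notMem (s := (B : Set G)) h _

theorem eB_inv (x : G) : eB B x⁻¹ = eB B x := by
  by_cases h : x ∈ B
  · rw [eB_of_mem B h, eB_of_mem B (inv_mem h)]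
  · rw [eB_of_notMem B h, eB_of_notMem B fun h' => h (by simpa using inv_mem h')]

theorem sum_mul_eB (f : G → ℂ) :
    ∑ y, f y * eB B y = (Nat.card B : ℂ)⁻¹ * ∑ b : B, f b := by
  classical
  rw [Finset.mul_sum, ← Finset.sum_subtype (Finset.univ.filter (· ∈ B)) (by simp)
    (fun x => (Nat.card B : ℂ)⁻¹ * f x), Finset.sum_filter]
  refine Finset.sum_congr rfl fun y _ => ?_
  split_ifs with h
  · rw [eB_of_mem B h, mul_comm]
  · rw [eB_of_notMem B h, mul_zero]

theorem eB_conv_apply (a : G → ℂ) (x : G) :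
    conv (eB B) a x = (Nat.card B : ℂ)⁻¹ * ∑ b : B, a ((b : G)⁻¹ * x) := by
  rw [conv_apply, ← sum_mul_eB B fun y => a (y⁻¹ * x)]
  exact Finset.sum_congr rfl fun y _ => mul_comm _ _

theorem eB_conv_of_inv {a : G → ℂ} (ha : ∀ b ∈ B, ∀ x, a (b * x) = a x) :
    conv (eB B) a = a := by
  funext x
  rw [eB_conv_apply]
  rw [Finset.sum_congr rfl fun (b : B) _ => ha _ (inv_mem b.2) x, Finset.sum_const, Finset.card_univ,
    nsmul_eq_mul, ← Nat.card_eq_fintype_card, inv_mul_cancel_left₀]
  exact Nat.cast_ne_zero.2 Nat.card_pos.ne'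

theorem eB_mul_left {b : G} (hb : b ∈ B) (x : G) : eB B (b * x) = eB B x := by
  by_cases h : x ∈ B
  · rw [eB_of_mem B h, eB_of_mem B (mul_mem hb h)]
  · rw [eB_of_notMem B h, eB_of_notMem B fun h' => h ((B.mul_mem_cancel_left hb).1 h')]

theorem eB_idem : conv (eB B) (eB B) = eB B := eB_conv_of_inv B fun _ hb x => eB_mul_left B hb x

theorem conv_eB_of_inv {a : G → ℂ} (ha : ∀ b ∈ B, ∀ x, a (x * b) = a x) :
    conv a (eB B) = a := by
  have h := eB_conv_of_inv B (a := fun y => a y⁻¹) fun b hb x => by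
    show a (b * x)⁻¹ = a x⁻¹
    rw [mul_inv_rev]
    exact ha _ (inv_mem hb) _
  funext x
  rw [← inv_inv x, conv_inv, show (fun y => eB B y⁻¹) = eB B from funext (eB_inv B), h]

/-- The centre of the algebra of biinvariant functions. -/
def zHecke : Submodule ℂ (G → ℂ) where
  carrier := {f | conv (eB B) f = f ∧ conv f (eB B) = f ∧
    ∀ h, conv (eB B) h = h → conv h (eB B) = h → conv f h = conv h f}
  add_mem' := fun {a b} ha hb => ⟨by rw [conv_add_right, ha.1, hb.1],
    by rw [conv_add_left, ha.2.1, hb.2.1],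
    fun h h1 h2 => by rw [conv_add_left, conv_add_right, ha.2.2 h h1 h2, hb.2.2 h h1 h2]⟩
  zero_mem' := ⟨by funext x; simp [conv_apply], conv_zero_left _,
    fun h _ _ => by funext x; simp [conv_apply]⟩
  smul_mem' := fun c a ha => ⟨by rw [conv_smul_right, ha.1], by rw [conv_smul_left, ha.2.1],
    fun h h1 h2 => by rw [conv_smul_left, conv_smul_right, ha.2.2 h h1 h2]⟩

theorem mem_zHecke {f : G → ℂ} : f ∈ zHecke B ↔ conv (eB B) f = f ∧ conv f (eB B) = f ∧
    ∀ h, conv (eB B) h = h → conv h (eB B) = h → conv f h = conv h f := Iff.rfl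

theorem classFun_conv_eB_mem {a : G → ℂ} (ha : IsClassFunction G a) :
    conv a (eB B) ∈ zHecke B := by
  refine ⟨?_, ?_, fun h h1 h2 => ?_⟩
  · rw [conv_classFun_comm ha, ← conv_assoc, eB_idem]
  · rw [conv_assoc, eB_idem]
  · rw [conv_assoc, h1, ← conv_assoc, ← conv_classFun_comm ha, conv_assoc, h2]

/-- The central idempotent of an irreducible character. -/
noncomputable def idem (χ : IrrCharacter G) : G → ℂ := blockCoeff {χ}

theorem idem_apply (χ : IrrCharacter G) (g : G) :
    idem χ g = (Nat.card G : ℂ)⁻¹ * ((χ : G → ℂ) 1 * (χ : G → ℂ) g⁻¹) := by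
  classical
  have := finite_irr (G := G)
  have := Fintype.ofFinite (IrrCharacter G)
  rw [idem, blockCoeff_eq_sum, Finset.sum_eq_single χ]
  · simp
  · intro ψ _ hψ; simp [hψ]
  · simp

theorem idem_class (χ : IrrCharacter G) : IsClassFunction G (idem χ) :=
  isClassFunction_blockCoeff _

theorem omega_idem [DecidableEq (IrrCharacter G)] (χ ψ : IrrCharacter G) :
    omega (ψ : G → ℂ) (idem χ) = if ψ = χ then 1 else 0 := by
  rw [idem, omega_blockCoeff]
  simp [Set.indicator_apply]

theorem idem_conv [DecidableEq (IrrCharacter G)] (χ ψ : IrrCharacter G) :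
    conv (idem χ) (idem ψ) = if χ = ψ then idem χ else 0 := by
  refine eq_of_omega_eq (isClassFunction_conv (idem_class χ) (idem_class ψ)) ?_ fun θ => ?_
  · split_ifs
    · exact idem_class χ
    · exact fun _ _ => rfl
  · rw [omega_conv θ (idem_class χ) (idem_class ψ)]
    split_ifs with h
    · subst h
      rw [omega_idem]
      split_ifs <;> simp
    · rw [omega_idem, omega_idem, omega_zero]
      split_ifs with h1 h2 <;> simp_all

theorem conv_idem_of_class (χ : IrrCharacter G) {a : G → ℂ} (ha : IsClassFunction G a) :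
    conv (idem χ) a = omega (χ : G → ℂ) a • idem χ := by
  classical
  refine eq_of_omega_eq (isClassFunction_conv (idem_class χ) ha)
    (fun g h => by simp only [Pi.smul_apply, idem_class χ g h]) fun θ => ?_
  rw [omega_conv θ (idem_class χ) ha, omega_smul, omega_idem]
  split_ifs with h
  · subst h; ring
  · ring

theorem sum_idem [Fintype (IrrCharacter G)] : ∑ χ : IrrCharacter G, idem χ = pt 1 := by
  classical
  refine eq_of_omega_eq (fun g h => by simp only [Finset.sum_apply, idem_class _ g h])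
    isClassFunction_pt_one fun θ => ?_
  rw [omega_sum]
  simp only [omega_idem, Finset.sum_ite_eq, Finset.mem_univ, if_true]
  rw [omega_eq_sum, Finset.sum_eq_single 1]
  · simp [pt, irr_one_ne_zero θ]
  · intro y _ hy; simp [pt, hy]
  · simp

/-- The sum of a character over `B`. -/
noncomputable def bsum (χ : G → ℂ) : ℂ := ∑ b : B, χ b

theorem bsum_inv (χ : G → ℂ) : ∑ b : B, χ (b : G)⁻¹ = bsum B χ :=
  Fintype.sum_equiv (Equiv.inv B) _ _ fun _ => rfl

theorem idem_conv_eB_one (χ : IrrCharacter G) :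
    conv (idem χ) (eB B) 1 =
      (Nat.card B : ℂ)⁻¹ * ((Nat.card G : ℂ)⁻¹ * (χ : G → ℂ) 1) * bsum B (χ : G → ℂ) := by
  rw [conv_classFun_comm (idem_class χ), eB_conv_apply, bsum, Finset.mul_sum, Finset.mul_sum]
  refine Finset.sum_congr rfl fun b _ => ?_
  rw [idem_apply, mul_one, inv_inv]
  ring

theorem idem_conv_eB_eq_zero {χ : IrrCharacter G} (h : bsum B (χ : G → ℂ) = 0) :
    conv (idem χ) (eB B) = 0 := by
  classical
  set f := conv (idem χ) (eB B) with hf
  have hidem : conv f f = f := by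
    rw [hf, conv_assoc, ← conv_assoc (eB B) (idem χ), ← conv_classFun_comm (idem_class χ),
      conv_assoc (idem χ) (eB B), eB_idem, ← conv_assoc, idem_conv, if_pos rfl]
  have hherm : ∀ g, conj (f g) = f g⁻¹ := by
    intro g
    have hE : ∀ y, conj (idem χ y) = idem χ y⁻¹ := by
      intro y
      rw [idem_apply, idem_apply, map_mul, map_mul, map_inv₀, map_natCast, conj_irr, conj_irr,
        inv_one]
    have he : ∀ y, conj (eB B y) = eB B y := by
      intro y
      by_cases hy : y ∈ B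
      · rw [eB_of_mem B hy, map_inv₀, map_natCast]
      · rw [eB_of_notMem B hy, map_zero]
    have e1 : conj (f g) = conv (fun y => idem χ y⁻¹) (eB B) g := by
      simp only [hf, conv_apply, map_sum, map_mul, hE, he]
    rw [e1, hf, conv_inv]
    simp only [eB_inv]
    rw [conv_classFun_comm (a := fun y => idem χ y⁻¹)]
    intro a b
    show idem χ (b * a * b⁻¹)⁻¹ = idem χ a⁻¹
    rw [show (b * a * b⁻¹)⁻¹ = b * a⁻¹ * b⁻¹ by group, idem_class χ]
  have h1 : f 1 = ((∑ y, Complex.normSq (f y) : ℝ) : ℂ) := by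
    conv_lhs => rw [← hidem]
    rw [conv_apply, Complex.ofReal_sum]
    refine Finset.sum_congr rfl fun y _ => ?_
    rw [mul_one, ← hherm, Complex.mul_conj]
  have h0 : f 1 = 0 := by rw [hf, idem_conv_eB_one, h, mul_zero]
  rw [h0] at h1
  have h2 := (Finset.sum_eq_zero_iff_of_nonneg fun y _ => Complex.normSq_nonneg _).1
    (Complex.ofReal_eq_zero.1 h1.symm)
  funext y
  exact Complex.normSq_eq_zero.1 (h2 y (Finset.mem_univ _))

/-- Conjugation averaging. -/
noncomputable def cAvg (f : G → ℂ) : G → ℂ := ∑ g : G, conv (conv (pt g) f) (pt g⁻¹)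

theorem cAvg_apply (f : G → ℂ) (x : G) : cAvg f x = ∑ g : G, f (g⁻¹ * x * g) := by
  simp only [cAvg, Finset.sum_apply, conv_pt_right, conv_pt_left, inv_inv, mul_assoc]

theorem cAvg_class (f : G → ℂ) : IsClassFunction G (cAvg f) := by
  intro x h
  rw [cAvg_apply, cAvg_apply]
  refine Fintype.sum_equiv (Equiv.mulLeft h⁻¹) _ _ fun g => ?_
  rw [Equiv.coe_mulLeft]
  congr 1
  group

theorem omega_cAvg_eB (χ : IrrCharacter G) :
    omega (χ : G → ℂ) (cAvg (eB B)) =
      (Nat.card G : ℂ) * (Nat.card B : ℂ)⁻¹ * bsum B (χ : G → ℂ) / (χ : G → ℂ) 1 := by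
  rw [omega_eq_sum]
  congr 1
  simp only [cAvg_apply, Finset.sum_mul]
  have key : ∀ g : G, ∑ x, eB B (g⁻¹ * x * g) * (χ : G → ℂ) x = ∑ y, (χ : G → ℂ) y * eB B y := by
    intro g
    refine Fintype.sum_equiv ((Equiv.mulLeft g⁻¹).trans (Equiv.mulRight g)) _ _ fun y => ?_
    simp only [Equiv.trans_apply, Equiv.coe_mulLeft, Equiv.coe_mulRight]
    rw [mul_comm (eB B _)]
    congr 1
    have := irr_class χ y g⁻¹
    rw [inv_inv] at this
    exact this.symm
  rw [Finset.sum_comm, Finset.sum_congr rfl fun g _ => key g, Finset.sum_const, Finset.card_univ,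
    sum_mul_eB, bsum, nsmul_eq_mul]
  simp only [Nat.card_eq_fintype_card, mul_assoc]

theorem conv_cAvg_eB {h : G → ℂ} (hh : h ∈ zHecke B) :
    conv (cAvg h) (eB B) = conv (cAvg (eB B)) h := by
  obtain ⟨h1, h2, h3⟩ := (mem_zHecke B).1 hh
  rw [cAvg, cAvg, conv_sum_left, conv_sum_left]
  refine Finset.sum_congr rfl fun g _ => ?_
  set m := conv (conv (eB B) (pt g⁻¹)) (eB B) with hm
  have hm1 : conv (eB B) m = m := by rw [hm, ← conv_assoc, ← conv_assoc, eB_idem]
  have hm2 : conv m (eB B) = m := by rw [hm, conv_assoc, eB_idem]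
  have h4 := h3 m hm1 hm2
  have e1 : conv (conv (conv (pt g) h) (pt g⁻¹)) (eB B) = conv (pt g) (conv h m) := by
    rw [hm, ← conv_assoc h, ← conv_assoc h, h2]
    simp only [conv_assoc]
  have e2 : conv (conv (conv (pt g) (eB B)) (pt g⁻¹)) h = conv (pt g) (conv m h) := by
    rw [hm, conv_assoc _ (eB B) h, h1]
    simp only [conv_assoc]
  rw [e1, e2, h4]

theorem finrank_zHecke :
    Module.finrank ℂ (zHecke B) =
      Nat.card {χ : IrrCharacter G // bsum B (χ : G → ℂ) ≠ 0} := by
  classical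
  have := finite_irr (G := G)
  have := Fintype.ofFinite (IrrCharacter G)
  set v : {χ : IrrCharacter G // bsum B (χ : G → ℂ) ≠ 0} → G → ℂ :=
    fun χ => conv (idem χ.1) (eB B) with hv
  have hind : LinearIndependent ℂ v := by
    rw [Fintype.linearIndependent_iff]
    intro c hc ψ
    have h1 : conv (idem ψ.1) (∑ χ, c χ • v χ) = c ψ • v ψ := by
      rw [conv_sum_right, Finset.sum_eq_single ψ]
      · simp [hv, conv_smul_right, ← conv_assoc, idem_conv]
      · intro χ _ hχ
        have hne : ψ.1 ≠ χ.1 := fun e => hχ (Subtype.ext e).symm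
        simp [hv, conv_smul_right, ← conv_assoc, idem_conv, if_neg hne, conv_zero_left]
      · simp
    rw [hc] at h1
    have h2 := congrFun h1 1
    simp only [conv_apply, Pi.zero_apply, mul_zero, Finset.sum_const_zero, Pi.smul_apply, hv,
      smul_eq_mul] at h2
    rcases mul_eq_zero.1 h2.symm with h3 | h3
    · exact h3
    exfalso
    have h4 := idem_conv_eB_one B ψ.1
    rw [conv_apply, h3] at h4
    have hG : (Nat.card G : ℂ) ≠ 0 := Nat.cast_ne_zero.2 Nat.card_pos.ne'
    have hB : (Nat.card B : ℂ) ≠ 0 := Nat.cast_ne_zero.2 Nat.card_pos.ne'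
    exact mul_ne_zero (mul_ne_zero (inv_ne_zero hB) (mul_ne_zero (inv_ne_zero hG)
      (irr_one_ne_zero ψ.1))) ψ.2 h4.symm
  have hspan : Submodule.span ℂ (Set.range v) = zHecke B := by
    apply le_antisymm
    · rw [Submodule.span_le]
      rintro _ ⟨χ, rfl⟩
      exact classFun_conv_eB_mem B (idem_class χ.1)
    · intro h hh
      have hkey : ∀ χ : IrrCharacter G, conv (idem χ) h ∈ Submodule.span ℂ (Set.range v) := by
        intro χ
        by_cases hχ : bsum B (χ : G → ℂ) = 0
        · rw [← hh.1, ← conv_assoc, idem_conv_eB_eq_zero B hχ, conv_zero_left]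
          exact zero_mem _
        · have hne : omega (χ : G → ℂ) (cAvg (eB B)) ≠ 0 := by
            rw [omega_cAvg_eB]
            exact div_ne_zero (mul_ne_zero (mul_ne_zero (Nat.cast_ne_zero.2 Nat.card_pos.ne')
              (inv_ne_zero (Nat.cast_ne_zero.2 Nat.card_pos.ne'))) hχ) (irr_one_ne_zero χ)
          have h1 := congrArg (conv (idem χ)) (conv_cAvg_eB B hh)
          rw [← conv_assoc, ← conv_assoc, conv_idem_of_class χ (cAvg_class _),
            conv_idem_of_class χ (cAvg_class _), conv_smul_left, conv_smul_left] at h1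
          rw [show conv (idem χ) h = (omega (χ : G → ℂ) (cAvg (eB B)))⁻¹ •
              (omega (χ : G → ℂ) (cAvg h) • v ⟨χ, hχ⟩) by
            rw [hv, h1, smul_smul, inv_mul_cancel₀ hne, one_smul]]
          exact Submodule.smul_mem _ _ (Submodule.smul_mem _ _
            (Submodule.subset_span ⟨_, rfl⟩))
      rw [← pt_one_conv h, ← sum_idem, conv_sum_left]
      exact sum_mem fun χ _ => hkey χ
  rw [← hspan, finrank_span_eq_card hind, Nat.card_eq_fintype_card]

theorem exists_add_iff (χ : IrrCharacter G) :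
    (∃ φ : G → ℂ, IsCharacter G φ ∧ fixedPointCharacter B = (χ : G → ℂ) + φ) ↔
      bsum B (χ : G → ℂ) ≠ 0 := by
  classical
  have hpi := GLFlag.isCharacter_fixedPointCharacter B
  have hinner : ∀ ψ : IrrCharacter G, classInner (fixedPointCharacter B) (ψ : G → ℂ) =
      (Nat.card G : ℂ)⁻¹ * ((B.index : ℂ) * bsum B (ψ : G → ℂ)) := by
    intro ψ
    rw [CharCore.classInner_eq_inv _ (CharCore.irr_isCharacter ψ)]
    congr 1
    rw [Finset.sum_congr rfl fun g _ => mul_comm (fixedPointCharacter B g) ((ψ : G → ℂ) g⁻¹),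
      Steinberg.sum_classFunction_perm B (f := fun g => (ψ : G → ℂ) g⁻¹) fun g h => ?_, bsum_inv]
    · simp only [bsum]
      congr!
    show (ψ : G → ℂ) (h * g * h⁻¹)⁻¹ = (ψ : G → ℂ) g⁻¹
    rw [show (h * g * h⁻¹)⁻¹ = h * g⁻¹ * h⁻¹ by group, irr_class ψ]
  have hfac : (Nat.card G : ℂ)⁻¹ ≠ 0 ∧ (B.index : ℂ) ≠ 0 :=
    ⟨inv_ne_zero (Nat.cast_ne_zero.2 Nat.card_pos.ne'),
      Nat.cast_ne_zero.2 Subgroup.index_ne_zero_of_finite⟩
  have hne : classInner (fixedPointCharacter B) (χ : G → ℂ) ≠ 0 ↔ bsum B (χ : G → ℂ) ≠ 0 := by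
    rw [hinner]
    simp [hfac.2]
  rw [← hne]
  constructor
  · rintro ⟨φ, hφ, e⟩
    obtain ⟨k, hk⟩ := (CharCore.isCharacter_iff_classInner.1 hφ).2 χ
    have e2 : classInner (fixedPointCharacter B) (χ : G → ℂ) = 1 + k := by
      rw [e, ← hk]
      have h1 := CharCore.classInner_irr χ χ
      rw [if_pos rfl] at h1
      rw [← h1]
      simp only [classInner, Pi.add_apply, add_mul, Finset.sum_add_distrib, mul_add]
    rw [e2]
    exact_mod_cast (by omega : 1 + k ≠ 0)
  · intro h0
    refine ⟨fixedPointCharacter B - (χ : G → ℂ), ?_, (add_sub_cancel _ _).symm⟩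
    obtain ⟨hcl, hnat⟩ := CharCore.isCharacter_iff_classInner.1 hpi
    rw [CharCore.isCharacter_iff_classInner]
    refine ⟨fun g h => by simp only [Pi.sub_apply, hcl g h, irr_class χ g h], fun ψ => ?_⟩
    obtain ⟨k, hk⟩ := hnat ψ
    have e2 : classInner (fixedPointCharacter B - (χ : G → ℂ)) (ψ : G → ℂ) =
        k - if χ = ψ then 1 else 0 := by
      rw [← hk, ← CharCore.classInner_irr χ ψ]
      simp only [classInner, Pi.sub_apply, sub_mul, Finset.sum_sub_distrib, mul_sub]
    rw [e2]
    by_cases hψ : χ = ψ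
    · subst hψ
      refine ⟨k - 1, ?_⟩
      have hk1 : 1 ≤ k := Nat.one_le_iff_ne_zero.2 fun e => h0 (by rw [hk, e, Nat.cast_zero])
      rw [if_pos rfl, Nat.cast_sub hk1, Nat.cast_one]
    · exact ⟨k, by rw [if_neg hψ, sub_zero]⟩

theorem card_constituents :
    Nat.card {χ : IrrCharacter G //
      ∃ φ : G → ℂ, IsCharacter G φ ∧ fixedPointCharacter B = (χ : G → ℂ) + φ} =
      Module.finrank ℂ (zHecke B) := by
  rw [finrank_zHecke]
  exact Nat.card_congr (Equiv.subtypeEquivRight fun χ => exists_add_iff B χ)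

end Cfsg.Agent.HeckeCentre82
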