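import Cfsg.Agent.HeckeCentre82.Deform
import Cfsg.Agent.HeckeCentre82.Constituents

/-!
The algebra of biinvariant functions of a finite (B,N)-pair whose simple cells all have `q` cosets.
-/

set_option autoImplicit false
set_option linter.unusedSectionVars false

namespace Cfsg.Agent.HeckeCentre82

open Cfsg.Agent.BN Cfsg.Agent.BlocksCore
open Cfsg.Agent.Steinberg (sch mk_mem_sch cardC rep rep_mem rep_eqv mem_cell_rep mul_mem_two
  inv_mem_two)

variable {G : Type*} [Group G] (P : Cfsg.BNPair G)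

/-- The Bruhat class of an element. -/
noncomputable def cls (g : G) : WG P := mkW P (rep P g) (rep_mem P g)

theorem cls_of_mem {g n : G} (hn : n ∈ P.N) (hg : g ∈ cell P n) : cls P g = mkW P n hn :=
  (mkW_eq P _ hn).2 (rep_eqv P hn hg)

theorem cls_out (w : WG P) : cls P (out P w) = w := by
  rw [cls_of_mem P (out_mem P w) (self_mem_cell P _), mkW_out]

theorem cls_inv (g : G) : cls P g⁻¹ = (cls P g)⁻¹ :=
  cls_of_mem P (inv_mem (rep_mem P g)) (inv_mem_cell P (mem_cell_rep P g))

theorem cls_mul_left {b : G} (hb : b ∈ P.B) (g : G) : cls P (b * g) = cls P g :=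
  cls_of_mem P (rep_mem P g) (mul_mem_cell_left P hb (mem_cell_rep P g))

theorem cls_mul_right {b : G} (hb : b ∈ P.B) (g : G) : cls P (g * b) = cls P g :=
  cls_of_mem P (rep_mem P g) (mul_mem_cell_right P hb (mem_cell_rep P g))

theorem cls_eq_iff {g n : G} (hn : n ∈ P.N) : cls P g = mkW P n hn ↔ g ∈ cell P n := by
  refine ⟨fun h => ?_, fun h => cls_of_mem P hn h⟩
  rw [← cell_congr P ((mkW_eq P (rep_mem P g) hn).1 h)]
  exact mem_cell_rep P g

theorem cls_eq_one {g : G} : cls P g = 1 ↔ g ∈ P.B := by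
  rw [← cell_one P]
  exact cls_eq_iff P (one_mem _)

theorem mul_mem_cell_up {g n x y : G} (hg : g ∈ P.S) (hn : n ∈ P.N)
    (hl : len P n ≤ len P (g * n)) (hx : x ∈ cell P g) (hy : y ∈ cell P n) :
    x * y ∈ cell P (g * n) := by
  obtain ⟨a, ha, b, hb, rfl⟩ := (mem_cell P).1 hx
  obtain ⟨c, hc, d, hd, rfl⟩ := (mem_cell P).1 hy
  rw [show a * g * b * (c * n * d) = a * (g * (b * c) * n) * d by group]
  exact mul_mem_cell_right P hd (mul_mem_cell_left P ha
    (mul_mem_cell_of_len_le P hg hn (mul_mem hb hc) hl))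

variable [Fintype G]

/-- The biinvariant function with given values on the Bruhat classes. -/
noncomputable def phi : Fn (WG P) →ₗ[ℂ] (G → ℂ) where
  toFun v g := (Nat.card P.B : ℂ)⁻¹ * v (cls P g)
  map_add' a b := by funext g; simp [mul_add]
  map_smul' c a := by funext g; simp [mul_left_comm]

theorem phi_apply (v : Fn (WG P)) (g : G) : phi P v g = (Nat.card P.B : ℂ)⁻¹ * v (cls P g) := rfl

theorem phi_injective : Function.Injective (phi P) := by
  intro a b h
  funext w
  have := congrFun h (out P w)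
  rw [phi_apply, phi_apply, cls_out] at this
  exact mul_left_cancel₀ (inv_ne_zero (Nat.cast_ne_zero.2 Nat.card_pos.ne')) this

theorem phi_one : phi P (dl 1) = eB P.B := by
  classical
  funext g
  rw [phi_apply, dl_apply]
  by_cases h : g ∈ P.B
  · rw [eB_of_mem _ h, if_pos ((cls_eq_one P).2 h), mul_one]
  · rw [eB_of_notMem _ h, if_neg fun e => h ((cls_eq_one P).1 e), mul_zero]

theorem exists_phi {f : G → ℂ} (h1 : conv (eB P.B) f = f) (h2 : conv f (eB P.B) = f) :
    ∃ v, phi P v = f := by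
  classical
  have hl : ∀ b ∈ P.B, ∀ x, f (b * x) = f x := by
    intro b hb x
    rw [← h1, eB_conv_apply, eB_conv_apply]
    congr 1
    refine Fintype.sum_equiv (Equiv.mulLeft (⟨b, hb⟩⁻¹ : P.B)) _ _ fun c => ?_
    rw [Equiv.coe_mulLeft]
    congr 1
    simp [mul_assoc]
  have hr : ∀ b ∈ P.B, ∀ x, f (x * b) = f x := by
    intro b hb x
    rw [← h2, conv_apply, conv_apply]
    refine Finset.sum_congr rfl fun y _ => ?_
    congr 1
    rw [← mul_assoc]
    rw [← eB_inv, mul_inv_rev, eB_mul_left _ (inv_mem hb), eB_inv]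
  refine ⟨fun w => (Nat.card P.B : ℂ) * f (out P w), funext fun g => ?_⟩
  rw [phi_apply, inv_mul_cancel_left₀ (Nat.cast_ne_zero.2 Nat.card_pos.ne')]
  have h3 : g ∈ cell P (out P (cls P g)) :=
    (cls_eq_iff P (out_mem P _)).1 (mkW_out P (cls P g)).symm
  obtain ⟨b, hb, b', hb', e⟩ := (mem_cell P).1 h3
  rw [e, hr _ hb', hl _ hb, ← e]

theorem phi_mem_left (v : Fn (WG P)) : conv (eB P.B) (phi P v) = phi P v := by
  classical
  exact eB_conv_of_inv _ fun b hb x => by rw [phi_apply, phi_apply, cls_mul_left P hb]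

theorem phi_mem_right (v : Fn (WG P)) : conv (phi P v) (eB P.B) = phi P v := by
  classical
  exact conv_eB_of_inv _ fun b hb x => by rw [phi_apply, phi_apply, cls_mul_right P hb]

variable {q : ℕ} (hq : ∀ s ∈ P.S, cardC P s = q)

include hq in
theorem conv_phi_left {s : WG P} (hs : s ∈ SW P) (v : Fn (WG P)) :
    conv (phi P (dl s)) (phi P v) = phi P (opL (wdata P) (q : ℂ) s v) := by
  classical
  obtain ⟨g, hg, hgN, rfl⟩ := hs
  funext x
  set n := rep P x with hn'
  have hn : n ∈ P.N := rep_mem P x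
  have hx : x ∈ cell P n := mem_cell_rep P x
  have hB : (Nat.card P.B : ℂ) ≠ 0 := Nat.cast_ne_zero.2 Nat.card_pos.ne'
  set Fz : G ⧸ P.B → ℂ := fun z => v (cls P (z.out⁻¹ * x)) with hFz
  set T : Finset (G ⧸ P.B) := Finset.univ.filter (· ∈ sch P g) with hT
  have hout : ∀ z : G ⧸ P.B, z ∈ T ↔ z.out ∈ cell P g := fun z => by
    rw [hT, Finset.mem_filter, ← mk_mem_sch, QuotientGroup.out_eq']
    simp
  have hcard : T.card = q := by
    rw [← hq g hg, cardC, Nat.card_eq_fintype_card, Fintype.card_subtype]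
  have hsum : conv (phi P (dl (mkW P g hgN))) (phi P v) x =
      (Nat.card P.B : ℂ)⁻¹ * ∑ z ∈ T, Fz z := by
    set f : G → ℂ := fun y => phi P (dl (mkW P g hgN)) y * phi P v (y⁻¹ * x) with hf
    have hfz : ∀ (z : G ⧸ P.B) (b : P.B), f (z.out * b) =
        (Nat.card P.B : ℂ)⁻¹ * ((Nat.card P.B : ℂ)⁻¹ * if z ∈ T then Fz z else 0) := by
      intro z b
      simp only [hf, phi_apply, dl_apply, mul_inv_rev, cls_mul_right P b.2]
      rw [if_congr ((cls_eq_iff P hgN).trans (hout z).symm) rfl rfl, mul_assoc (b : G)⁻¹,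
        cls_mul_left P (inv_mem b.2)]
      simp only [hFz]
      split_ifs <;> simp
    have h1 : ∑ y, f y = ∑ z : G ⧸ P.B, ∑ b : P.B, f (z.out * b) := by
      rw [← Fintype.sum_prod_type' (f := fun (z : G ⧸ P.B) (b : P.B) => f (z.out * b))]
      have hz : ∀ (z : G ⧸ P.B) (b : P.B), ((z.out * b : G) : G ⧸ P.B) = z := fun z b => by
        conv_rhs => rw [← QuotientGroup.out_eq' z]
        exact QuotientGroup.eq.2 (by simp)
      refine (Fintype.sum_bijective (fun p : (G ⧸ P.B) × P.B => p.1.out * (p.2 : G)) ⟨?_, ?_⟩ _ _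
        fun p => rfl).symm
      · rintro ⟨z, b⟩ ⟨z', b'⟩ e
        simp only at e
        obtain rfl : z = z' := by rw [← hz z b, e, hz]
        exact Prod.ext rfl (Subtype.ext (mul_left_cancel e))
      · intro y
        have hy : ((y : G ⧸ P.B)).out⁻¹ * y ∈ P.B := QuotientGroup.eq.1 (QuotientGroup.out_eq' _)
        exact ⟨((y : G ⧸ P.B), ⟨_, hy⟩), mul_inv_cancel_left _ _⟩
    rw [conv_apply, h1]
    simp only [hfz, Finset.sum_const, Finset.card_univ, nsmul_eq_mul, ← Nat.card_eq_fintype_card,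
      mul_inv_cancel_left₀ hB]
    rw [← Finset.mul_sum, Finset.sum_ite_mem, Finset.univ_inter]
  rw [hsum, phi_apply, opL_apply]
  congr 1
  have hsl : (wdata P).len (mkW P g hgN * cls P x) = len P (g * n) := lenW_mk P (mul_mem hgN hn)
  have hwl : (wdata P).len (cls P x) = len P n := lenW_mk P hn
  have hsn : mkW P g hgN * cls P x = mkW P (g * n) (mul_mem hgN hn) := rfl
  have hinv : ∀ z ∈ T, z.out⁻¹ ∈ cell P g := fun z hz => by
    have := inv_mem_cell P ((hout z).1 hz)
    rwa [cell_congr P (eqv_S_inv P hg)] at this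
  rw [hsl, hwl]
  split_ifs with hdown
  · obtain ⟨c, hc, d, hd, e⟩ := (mem_cell P).1 hx
    set z0 : G ⧸ P.B := ((c * g : G) : G ⧸ P.B) with hz0
    have hz0T : z0 ∈ T := by
      rw [hT, Finset.mem_filter]
      exact ⟨Finset.mem_univ _, (mk_mem_sch P).2 (mul_mem_cell_left P hc (self_mem_cell P g))⟩
    have hF0 : Fz z0 = v (mkW P g hgN * cls P x) := by
      have hb : z0.out⁻¹ * (c * g) ∈ P.B := QuotientGroup.eq.1 (QuotientGroup.out_eq' z0)
      rw [hFz, hsn]
      show v (cls P (z0.out⁻¹ * x)) = _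
      rw [cls_of_mem P (mul_mem hgN hn)]
      have e2 : z0.out⁻¹ * x = (z0.out⁻¹ * (c * g)) * (g⁻¹ * n) * d := by rw [e]; group
      rw [e2]
      refine mul_mem_cell_right P hd (mul_mem_cell_left P hb ?_)
      rw [← cell_congr P (eqv_mul_right P (eqv_S_inv P hg) (inv_mem hgN) hgN hn)]
      exact self_mem_cell P _
    have hF1 : ∀ z ∈ T.erase z0, Fz z = v (cls P x) := by
      intro z hz
      obtain ⟨hne, hzT⟩ := Finset.mem_erase.1 hz
      rw [hFz]
      show v (cls P (z.out⁻¹ * x)) = _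
      rcases mul_cell_subset P hg hn (hinv z hzT) hx with h | h
      · exfalso
        apply hne
        have h0 : z0.out⁻¹ * x ∈ cell P (g * n) := by
          have hb : z0.out⁻¹ * (c * g) ∈ P.B := QuotientGroup.eq.1 (QuotientGroup.out_eq' z0)
          have e2 : z0.out⁻¹ * x = (z0.out⁻¹ * (c * g)) * (g⁻¹ * n) * d := by rw [e]; group
          rw [e2]
          refine mul_mem_cell_right P hd (mul_mem_cell_left P hb ?_)
          rw [← cell_congr P (eqv_mul_right P (eqv_S_inv P hg) (inv_mem hgN) hgN hn)]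
          exact self_mem_cell P _
        have h2 := mul_mem_two P hg (inv_mem_two P hg (Or.inr ((hout z).1 hzT)))
          (Or.inr ((hout z0).1 hz0T))
        rcases h2 with hB' | hC
        · have := QuotientGroup.eq.2 hB'
          rwa [QuotientGroup.out_eq', QuotientGroup.out_eq'] at this
        · exfalso
          have h3 : len P (g * n) ≤ len P (g * (g * n)) := by
            rw [len_congr P (eqv_S_mul_S_mul P hg hn)]; omega
          have h4 := mul_mem_cell_up P hg (mul_mem hgN hn) h3 hC h0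
          rw [cell_congr P (eqv_S_mul_S_mul P hg hn),
            show z.out⁻¹ * z0.out * (z0.out⁻¹ * x) = z.out⁻¹ * x by group] at h4
          have := len_congr P (eqv_of_cell_eq P (mul_mem hgN hn) hn
            ((cell_eq_of_mem P h).symm.trans (cell_eq_of_mem P h4)))
          omega
      · rw [cls_of_mem P hn h]
        rfl
    rw [← Finset.add_sum_erase T Fz hz0T, hF0, Finset.sum_congr rfl hF1, Finset.sum_const,
      Finset.card_erase_of_mem hz0T, hcard, nsmul_eq_mul]
    have hq1 : 1 ≤ q := hcard ▸ Finset.card_pos.2 ⟨z0, hz0T⟩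
    rw [Nat.cast_sub hq1, Nat.cast_one]
  · rw [Finset.sum_congr rfl (g := fun _ => v (mkW P g hgN * cls P x)), Finset.sum_const, hcard,
      nsmul_eq_mul]
    intro z hz
    rw [hFz, hsn]
    show v (cls P (z.out⁻¹ * x)) = _
    rw [cls_of_mem P (mul_mem hgN hn) (mul_mem_cell_up P hg hn (by omega) (hinv z hz) hx)]

theorem phi_comp_inv (v : Fn (WG P)) :
    (fun y => phi P v y⁻¹) = phi P (fun w => v w⁻¹) := by
  funext y
  rw [phi_apply, phi_apply, cls_inv]

theorem dl_comp_inv {W : Type*} [Group W] (D : WData W) {s : W} (hs : s ∈ D.S) :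
    (fun w => dl s w⁻¹) = dl s := by
  classical
  funext w
  rw [dl_apply, dl_apply]
  by_cases h : w = s
  · rw [h, D.S_inv hs]
  · rw [if_neg h, if_neg fun e => h (by rw [← inv_inv w, e, D.S_inv hs])]

include hq in
theorem conv_phi_right {s : WG P} (hs : s ∈ SW P) (v : Fn (WG P)) :
    conv (phi P v) (phi P (dl s)) = phi P (opR (wdata P) (q : ℂ) s v) := by
  have h := conv_phi_left P hq hs (fun w => v w⁻¹)
  funext x
  have h1 := congrFun h x⁻¹
  rw [conv_inv, phi_comp_inv, phi_comp_inv, dl_comp_inv (wdata P) (s := s) hs] at h1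
  simp only [inv_inv] at h1
  rw [h1, phi_apply, phi_apply, cls_inv, opL_apply, opR_apply]
  have e1 : s * (cls P x)⁻¹ = (cls P x * s)⁻¹ := by
    rw [mul_inv_rev, (wdata P).S_inv hs]
  rw [e1, (wdata P).len_inv, (wdata P).len_inv]
  simp only [inv_inv]

include hq in
theorem map_zsub : Submodule.map (phi P) (zsub (wdata P) (q : ℂ)) = zHecke P.B := by
  classical
  apply le_antisymm
  · rintro _ ⟨v, hv, rfl⟩
    refine ⟨phi_mem_left P v, phi_mem_right P v, fun h h1 h2 => ?_⟩
    obtain ⟨u, rfl⟩ := exists_phi P h1 h2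
    suffices hw : ∀ w, conv (phi P v) (phi P (dl w)) = conv (phi P (dl w)) (phi P v) by
      conv_lhs => rw [← sum_smul_dl u]
      conv_rhs => rw [← sum_smul_dl u]
      simp only [map_sum, map_smul, conv_sum_left, conv_sum_right, conv_smul_left,
        conv_smul_right, hw]
    intro w
    induction w using (wdata P).induction with
    | h1 => rw [phi_one, phi_mem_left, phi_mem_right]
    | hs s hs w hl ih =>
      rw [← opL_dl_up (wdata P) (q : ℂ) hs hl, ← conv_phi_left P hq hs, ← conv_assoc,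
        conv_phi_right P hq hs, ← (mem_zsub _ _).1 hv s hs, ← conv_phi_left P hq hs, conv_assoc,
        ih, ← conv_assoc]
  · intro f hf
    obtain ⟨h1, h2, h3⟩ := (mem_zHecke _).1 hf
    obtain ⟨v, rfl⟩ := exists_phi P h1 h2
    refine ⟨v, fun s hs => phi_injective P ?_, rfl⟩
    rw [← conv_phi_left P hq hs, ← conv_phi_right P hq hs]
    exact (h3 _ (phi_mem_left P _) (phi_mem_right P _)).symm

include hq in
/-- The constituents of the permutation character on `G ⧸ B` are as many as the classes of `W`. -/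
theorem card_constituents_eq (hq0 : 0 < q) :
    Nat.card {χ : IrrCharacter G //
      ∃ φ : G → ℂ, IsCharacter G φ ∧ fixedPointCharacter P.B = (χ : G → ℂ) + φ} =
      Nat.card (ConjClasses (WG P)) := by
  classical
  rw [card_constituents, ← map_zsub P hq,
    ← LinearEquiv.finrank_eq (Submodule.equivMapOfInjective _ (phi_injective P) _)]
  have := finrank_zsub (wdata P) (t := (q : ℝ)) (by exact_mod_cast hq0)
  rwa [Complex.ofReal_natCast] at this

end Cfsg.Agent.HeckeCentre82
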