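import Cfsg.Agent.HeckeCentre82.Ops
import Mathlib.Analysis.Normed.Module.FiniteDimension
import Mathlib.Analysis.Complex.Basic
import Mathlib.Topology.LocallyConstant.Basic
import Mathlib.Topology.Connected.PathConnected
import Mathlib.Algebra.Group.Conj

/-!
The dimension of the centre of the Hecke algebra does not depend on the positive parameter.
-/

set_option autoImplicit false
set_option linter.unusedSectionVars false

namespace Cfsg.Agent.HeckeCentre82

open scoped ComplexConjugate
open Filter Topology

/-- The rank can only go up nearby. -/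
theorem eventually_rank_le {X V U : Type*} [TopologicalSpace X] [AddCommGroup V] [Module ℂ V]
    [NormedAddCommGroup U] [NormedSpace ℂ U] [FiniteDimensional ℂ U] (T : X → (V →ₗ[ℂ] U)) (x : X)
    (hT : ∀ v, ContinuousAt (fun y => T y v) x) :
    ∀ᶠ y in 𝓝 x, Module.finrank ℂ (LinearMap.range (T x)) ≤
      Module.finrank ℂ (LinearMap.range (T y)) := by
  set b := Module.finBasis ℂ (LinearMap.range (T x)) with hb
  choose v hv using fun i => (b i).2
  have h1 : LinearIndependent ℂ (fun i => T x (v i)) := by
    simp only [hv]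
    exact b.linearIndependent.map' _ (Submodule.ker_subtype _)
  have hc : ContinuousAt (fun y => fun i => T y (v i)) x := continuousAt_pi.2 fun i => hT (v i)
  filter_upwards [hc.eventually h1.eventually] with y hy
  have h2 : LinearIndependent ℂ
      (fun i => (⟨T y (v i), LinearMap.mem_range_self _ _⟩ : LinearMap.range (T y))) :=
    LinearIndependent.of_comp (LinearMap.range (T y)).subtype hy
  simpa using h2.fintype_card_le_finrank

/-- Two families whose ranks add up to a constant have locally constant ranks. -/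
theorem rank_const {X V U U' : Type*} [TopologicalSpace X] [PreconnectedSpace X]
    [AddCommGroup V] [Module ℂ V]
    [NormedAddCommGroup U] [NormedSpace ℂ U] [FiniteDimensional ℂ U]
    [NormedAddCommGroup U'] [NormedSpace ℂ U'] [FiniteDimensional ℂ U']
    (T : X → (V →ₗ[ℂ] U)) (T' : X → (V →ₗ[ℂ] U')) (hT : ∀ v, Continuous fun y => T y v)
    (hT' : ∀ v, Continuous fun y => T' y v) (N : ℕ)
    (hN : ∀ y, Module.finrank ℂ (LinearMap.range (T y)) +
      Module.finrank ℂ (LinearMap.range (T' y)) = N) (a b : X) :
    Module.finrank ℂ (LinearMap.range (T a)) = Module.finrank ℂ (LinearMap.range (T b)) := by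
  refine IsLocallyConstant.apply_eq_of_preconnectedSpace
    (f := fun y => Module.finrank ℂ (LinearMap.range (T y)))
    ((IsLocallyConstant.iff_eventually_eq _).2 fun x => ?_) a b
  filter_upwards [eventually_rank_le T x fun v => (hT v).continuousAt,
    eventually_rank_le T' x fun v => (hT' v).continuousAt] with y h1 h2
  have := hN x
  have := hN y
  omega

variable {W : Type*} [Group W] [Fintype W] (D : WData W)

/-- Averaging. -/
noncomputable def avg (t : ℂ) : Fn W →ₗ[ℂ] Module.End ℂ (Fn W) where
  toFun v := ∑ w, (t⁻¹) ^ D.len w • (top D t w * hOf D t v * top D t w⁻¹)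
  map_add' a b := by
    have e : hOf D t (a + b) = hOf D t a + hOf D t b := by
      simp only [hOf, Pi.add_apply, add_smul, Finset.sum_add_distrib]
    simp only [e, mul_add, add_mul, smul_add, Finset.sum_add_distrib]
  map_smul' c a := by
    have e : hOf D t (c • a) = c • hOf D t a := by
      simp only [hOf, Pi.smul_apply, smul_eq_mul, mul_smul, Finset.smul_sum]
    simp only [e, RingHom.id_apply, Algebra.mul_smul_comm, Algebra.smul_mul_assoc, Finset.smul_sum,
      smul_comm c]

theorem avg_apply (t : ℂ) (v : Fn W) :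
    avg D t v = ∑ w, (t⁻¹) ^ D.len w • (top D t w * hOf D t v * top D t w⁻¹) := rfl

/-- Averaging, as an operator. -/
noncomputable def cmap (t : ℂ) : Fn W →ₗ[ℂ] Fn W :=
  (LinearMap.applyₗ (dl (1 : W))).comp (avg D t)

theorem cmap_apply (t : ℂ) (v : Fn W) : cmap D t v = avg D t v (dl 1) := rfl

theorem avg_mem (t : ℂ) (v : Fn W) : avg D t v ∈ algK D t := by
  rw [avg_apply]
  exact sum_mem fun w _ => Subalgebra.smul_mem _
    (mul_mem (mul_mem (top_mem D t w) (hOf_mem D t v)) (top_mem D t _)) _

theorem opL_avg {t : ℂ} (ht : t ≠ 0) {s : W} (hs : s ∈ D.S) (v : Fn W) :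
    opL D t s * avg D t v = avg D t v * opL D t s := by
  classical
  set h := hOf D t v with hh
  set c : W → ℂ := fun w => (t⁻¹) ^ D.len w with hc
  set a : W → ℂ := fun w => c w * (if D.len (s * w) < D.len w then t else 1) with ha
  set d : W → ℂ := fun w => c w * (if D.len (s * w) < D.len w then t - 1 else 0) with hd
  have hL : ∀ w, c w • (opL D t s * top D t w * h * top D t w⁻¹) =
      a w • (top D t (s * w) * h * top D t w⁻¹) + d w • (top D t w * h * top D t w⁻¹) := by
    intro w
    simp only [ha, hd]
    rcases D.step s hs w with h1 | h1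
    · rw [if_neg (by omega), if_neg (by omega), opL_top_up D t hs h1]
      simp
    · rw [if_pos (by omega), if_pos (by omega), opL_top_down D t hs h1]
      simp only [add_mul, Algebra.smul_mul_assoc, smul_add, smul_smul]
  have hR : ∀ w, c w • (top D t w * h * (top D t w⁻¹ * opL D t s)) =
      a w • (top D t w * h * top D t (w⁻¹ * s)) + d w • (top D t w * h * top D t w⁻¹) := by
    intro w
    have e : D.len (w⁻¹ * s) = D.len (s * w) := by rw [D.len_mul_S hs, inv_inv]
    simp only [ha, hd]
    rcases D.step s hs w with h1 | h1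
    · rw [if_neg (by omega), if_neg (by omega),
        top_opL_up D t hs (w := w⁻¹) (by rw [e, D.len_inv]; exact h1)]
      simp
    · rw [if_pos (by omega), if_pos (by omega),
        top_opL_down D t hs (w := w⁻¹) (by rw [e, D.len_inv]; exact h1)]
      simp only [mul_add, Algebra.mul_smul_comm, smul_add, smul_smul]
  have hsym : ∀ w, a (s * w) = a w := by
    intro w
    simp only [ha, hc, D.mul_mul_self hs]
    rcases D.step s hs w with h1 | h1
    · rw [if_pos (by omega), if_neg (by omega), h1, pow_succ, mul_assoc, inv_mul_cancel₀ ht]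
    · rw [if_neg (by omega), if_pos (by omega), ← h1, pow_succ, mul_assoc, inv_mul_cancel₀ ht]
  have h1 : opL D t s * avg D t v = ∑ w, (a w • (top D t (s * w) * h * top D t w⁻¹) +
      d w • (top D t w * h * top D t w⁻¹)) := by
    rw [avg_apply, Finset.mul_sum]
    refine Finset.sum_congr rfl fun w _ => ?_
    rw [← hL, Algebra.mul_smul_comm, ← mul_assoc, ← mul_assoc]
  have h2 : avg D t v * opL D t s = ∑ w, (a w • (top D t w * h * top D t (w⁻¹ * s)) +
      d w • (top D t w * h * top D t w⁻¹)) := by
    rw [avg_apply, Finset.sum_mul]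
    refine Finset.sum_congr rfl fun w _ => ?_
    rw [← hR, Algebra.smul_mul_assoc, mul_assoc]
  rw [h1, h2, Finset.sum_add_distrib, Finset.sum_add_distrib]
  congr 1
  refine Fintype.sum_equiv (Equiv.mulLeft s) _ _ fun w => ?_
  rw [Equiv.coe_mulLeft, hsym, mul_inv_rev, D.S_inv hs, D.mul_self_mul hs]

/-- The weighted inner product. -/
noncomputable def form (t : ℝ) (f g : Fn W) : ℂ :=
  ∑ x, (t : ℂ) ^ D.len x * (conj (f x) * g x)

theorem form_opL (t : ℝ) {s : W} (hs : s ∈ D.S) (f g : Fn W) :
    form D t f (opL D (t : ℂ) s g) = form D t (opL D (t : ℂ) s f) g := by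
  classical
  set d : W → ℂ := fun x => (t : ℂ) ^ D.len x * (if D.len (s * x) < D.len x then 1 else (t : ℂ))
    with hd
  set e : W → ℂ := fun x => (t : ℂ) ^ D.len x * (if D.len (s * x) < D.len x then (t : ℂ) - 1 else 0)
    with he
  have h1 : form D t f (opL D (t : ℂ) s g) =
      ∑ x, (d x * (conj (f x) * g (s * x)) + e x * (conj (f x) * g x)) := by
    refine Finset.sum_congr rfl fun x _ => ?_
    simp only [hd, he, opL_apply]
    split_ifs <;> ring
  have h2 : form D t (opL D (t : ℂ) s f) g =
      ∑ x, (d x * (conj (f (s * x)) * g x) + e x * (conj (f x) * g x)) := by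
    refine Finset.sum_congr rfl fun x _ => ?_
    simp only [hd, he, opL_apply]
    split_ifs <;> simp only [map_add, map_sub, map_mul, map_one, Complex.conj_ofReal] <;> ring
  have hsym : ∀ x, d (s * x) = d x := by
    intro x
    simp only [hd, D.mul_mul_self hs]
    rcases D.step s hs x with h | h
    · rw [if_pos (by omega), if_neg (by omega), h, pow_succ]; ring
    · rw [if_neg (by omega), if_pos (by omega), ← h, pow_succ]; ring
  rw [h1, h2, Finset.sum_add_distrib, Finset.sum_add_distrib]
  congr 1
  refine Fintype.sum_equiv (Equiv.mulLeft s) _ _ fun x => ?_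
  rw [Equiv.coe_mulLeft, hsym, D.mul_mul_self hs]

theorem form_top (t : ℝ) (w : W) : ∀ f g : Fn W,
    form D t f (top D (t : ℂ) w g) = form D t (top D (t : ℂ) w⁻¹ f) g := by
  induction w using D.induction with
  | h1 => intro f g; rw [inv_one, top_one]; rfl
  | hs s hs w hl ih =>
    intro f g
    have e : D.len (w⁻¹ * s) = D.len w⁻¹ + 1 := by
      rw [D.len_mul_S hs, inv_inv, D.len_inv, hl]
    rw [← opL_top_up D _ hs hl, mul_inv_rev, D.S_inv hs, ← top_opL_up D _ hs e,
      Module.End.mul_apply, Module.End.mul_apply, form_opL D t hs, ih]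

theorem avg_one_injective {t : ℝ} (ht : 0 < t) :
    Function.Injective (avg D (t : ℂ) (dl 1)) := by
  have h1 : hOf D (t : ℂ) (dl 1) = 1 := hOf_eq D _ (one_mem _)
  rw [← LinearMap.ker_eq_bot, LinearMap.ker_eq_bot']
  intro f hf
  have h2 : form D t f (avg D (t : ℂ) (dl 1) f) = 0 := by rw [hf]; simp [form]
  set r : W → ℝ := fun w => (t⁻¹) ^ D.len w *
    ∑ x, t ^ D.len x * Complex.normSq (top D (t : ℂ) w⁻¹ f x) with hr
  have hlin : ∀ (a : W → ℂ) (u : W → Fn W),
      form D t f (∑ w, a w • u w) = ∑ w, a w * form D t f (u w) := by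
    intro a u
    simp only [form, Finset.sum_apply, Pi.smul_apply, smul_eq_mul, Finset.mul_sum]
    rw [Finset.sum_comm]
    exact Finset.sum_congr rfl fun w _ => Finset.sum_congr rfl fun x _ => by ring
  have h3 : form D t f (avg D (t : ℂ) (dl 1) f) = ((∑ w, r w : ℝ) : ℂ) := by
    rw [avg_apply, h1]
    simp only [LinearMap.sum_apply, LinearMap.smul_apply, mul_one, Module.End.mul_apply]
    rw [hlin]
    push_cast
    refine Finset.sum_congr rfl fun w _ => ?_
    rw [form_top, hr]
    push_cast
    congr 1
    refine Finset.sum_congr rfl fun x _ => ?_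
    rw [Complex.normSq_eq_conj_mul_self]
  rw [h3, Complex.ofReal_eq_zero] at h2
  have hpos : ∀ w, 0 ≤ r w := fun w => mul_nonneg (by positivity)
    (Finset.sum_nonneg fun x _ => mul_nonneg (by positivity) (Complex.normSq_nonneg _))
  have h4 := (Finset.sum_eq_zero_iff_of_nonneg fun w _ => hpos w).1 h2 1 (Finset.mem_univ _)
  simp only [hr, D.len_one, pow_zero, one_mul, inv_one, top_one, Module.End.one_apply] at h4
  funext x
  have h5 := (Finset.sum_eq_zero_iff_of_nonneg
    fun x _ => mul_nonneg (by positivity) (Complex.normSq_nonneg _)).1 h4 x (Finset.mem_univ _)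
  rcases mul_eq_zero.1 h5 with h6 | h6
  · exact absurd h6 (pow_ne_zero _ ht.ne')
  · exact Complex.normSq_eq_zero.1 h6

theorem range_cmap {t : ℝ} (ht : 0 < t) : LinearMap.range (cmap D (t : ℂ)) = zsub D (t : ℂ) := by
  have ht' : (t : ℂ) ≠ 0 := by exact_mod_cast ht.ne'
  apply le_antisymm
  · rintro _ ⟨v, rfl⟩
    rw [mem_zsub_iff_commute, cmap_apply, hOf_eq D _ (avg_mem D _ v)]
    exact fun s hs => opL_avg D ht' hs v
  · intro z hz
    rw [mem_zsub_iff_commute] at hz
    set Z := hOf D (t : ℂ) z with hZ
    set J := avg D (t : ℂ) (dl 1) with hJ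
    have hu : IsUnit J := (Module.End.isUnit_iff _).2
      ⟨avg_one_injective D ht, LinearMap.injective_iff_surjective.1 (avg_one_injective D ht)⟩
    obtain ⟨u, hu⟩ := hu
    have hK : (↑u⁻¹ : Module.End ℂ (Fn W)) ∈ algK D (t : ℂ) := by
      rw [mem_algK]
      intro r hr
      have h1 : Commute (opR D (t : ℂ) r) (u : Module.End ℂ (Fn W)) := by
        rw [hu]; exact (mem_algK D _).1 (avg_mem D _ _) r hr
      exact h1.units_inv_right.eq
    have hL : ∀ s ∈ D.S, opL D (t : ℂ) s * (↑u⁻¹ : Module.End ℂ (Fn W)) = ↑u⁻¹ * opL D (t : ℂ) s := by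
      intro s hs
      have h1 : Commute (opL D (t : ℂ) s) (u : Module.End ℂ (Fn W)) := by
        rw [hu]; exact opL_avg D ht' hs _
      exact h1.units_inv_right.eq
    set X : Module.End ℂ (Fn W) := Z * ↑u⁻¹ with hX
    have hXK : X ∈ algK D (t : ℂ) := mul_mem (hOf_mem D _ z) hK
    refine ⟨X (dl 1), ?_⟩
    have hXc : ∀ s ∈ D.S, opL D (t : ℂ) s * X = X * opL D (t : ℂ) s := fun s hs => by
      rw [hX, ← mul_assoc, hz s hs, mul_assoc, hL s hs, mul_assoc]
    have e : avg D (t : ℂ) (X (dl 1)) = X * J := by
      have h1 : hOf D (t : ℂ) (dl 1) = 1 := hOf_eq D _ (one_mem _)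
      rw [hJ, avg_apply, avg_apply, hOf_eq D _ hXK, h1, Finset.mul_sum]
      refine Finset.sum_congr rfl fun w _ => ?_
      rw [Algebra.mul_smul_comm, mul_one, commute_top D _ hXc w, mul_assoc]
    rw [cmap_apply, e, ← hu, hX, mul_assoc, Units.inv_mul, mul_one, hZ, hOf_dl]

theorem continuous_top_apply {g : ℝ → Fn W} (hg : Continuous g) (w : W) :
    Continuous fun t : ℝ => top D (t : ℂ) w (g t) := by
  induction w using D.induction with
  | h1 => simpa only [top_one, Module.End.one_apply] using hg
  | hs s hs w hl ih =>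
    simp only [← opL_top_up D _ hs hl, Module.End.mul_apply]
    refine continuous_pi fun x => ?_
    simp only [opL_apply]
    split_ifs
    · exact ((continuous_apply (s * x)).comp ih).add
        ((Complex.continuous_ofReal.sub continuous_const).mul ((continuous_apply x).comp ih))
    · exact Complex.continuous_ofReal.mul ((continuous_apply (s * x)).comp ih)

theorem continuous_cmap (v : Fn W) :
    Continuous fun t : Set.Ioi (0 : ℝ) => cmap D (((t : ℝ)) : ℂ) v := by
  simp only [cmap_apply, avg_apply, hOf, LinearMap.sum_apply, LinearMap.smul_apply,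
    Module.End.mul_apply, map_sum, map_smul]
  refine continuous_finsetSum _ fun w _ => Continuous.smul (f := fun t : Set.Ioi (0 : ℝ) =>
    ((((t : ℝ)) : ℂ))⁻¹ ^ D.len w) (Continuous.pow ?_ _)
    (continuous_finsetSum _ fun x _ => Continuous.const_smul ?_ (v x))
  · exact (Complex.continuous_ofReal.comp continuous_subtype_val).inv₀ fun t =>
      by simpa using t.2.ne'
  · exact ((continuous_top_apply D (continuous_top_apply D
      (continuous_top_apply D continuous_const w⁻¹) x) w)).comp continuous_subtype_val

/-- The difference of the two multiplications. -/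
noncomputable def amap (t : ℂ) : Fn W →ₗ[ℂ] (D.S → Fn W) :=
  LinearMap.pi fun s => opL D t s - opR D t s

theorem ker_amap (t : ℂ) : LinearMap.ker (amap D t) = zsub D t := by
  ext v
  simp only [LinearMap.mem_ker, amap, mem_zsub, funext_iff, LinearMap.pi_apply, LinearMap.sub_apply,
    Pi.zero_apply, sub_eq_zero, Subtype.forall]

theorem continuous_amap (v : Fn W) :
    Continuous fun t : Set.Ioi (0 : ℝ) => amap D (((t : ℝ)) : ℂ) v := by
  refine continuous_pi fun s => continuous_pi fun x => ?_
  simp only [amap, LinearMap.pi_apply, LinearMap.sub_apply, Pi.sub_apply, opL_apply, opR_apply]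
  have hc : Continuous fun t : Set.Ioi (0 : ℝ) => (((t : ℝ)) : ℂ) :=
    Complex.continuous_ofReal.comp continuous_subtype_val
  split_ifs <;> fun_prop

theorem finrank_zsub_const {t u : ℝ} (ht : 0 < t) (hu : 0 < u) :
    Module.finrank ℂ (zsub D (t : ℂ)) = Module.finrank ℂ (zsub D (u : ℂ)) := by
  classical
  have : PreconnectedSpace (Set.Ioi (0 : ℝ)) :=
    Subtype.preconnectedSpace isPreconnected_Ioi
  have key := rank_const (X := Set.Ioi (0 : ℝ)) (fun t => cmap D (((t : ℝ)) : ℂ))
    (fun t => amap D (((t : ℝ)) : ℂ)) (continuous_cmap D) (continuous_amap D)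
    (Module.finrank ℂ (Fn W)) (fun y => by
      rw [range_cmap D y.2, ← ker_amap, add_comm]
      exact LinearMap.finrank_range_add_finrank_ker _) ⟨t, ht⟩ ⟨u, hu⟩
  rwa [range_cmap D ht, range_cmap D hu] at key

theorem finrank_zsub_one : Module.finrank ℂ (zsub D 1) = Nat.card (ConjClasses W) := by
  classical
  have : Finite (ConjClasses W) := Finite.of_surjective _ ConjClasses.mk_surjective
  have := Fintype.ofFinite (ConjClasses W)
  let E : (ConjClasses W → ℂ) →ₗ[ℂ] Fn W := LinearMap.funLeft ℂ ℂ ConjClasses.mk
  have hinj : Function.Injective E :=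
    LinearMap.funLeft_injective_of_surjective ℂ ℂ _ ConjClasses.mk_surjective
  have h1 : LinearMap.range E = zsub D 1 := by
    apply le_antisymm
    · rintro _ ⟨f, rfl⟩ s hs
      funext x
      simp only [opL_apply, opR_apply, E, LinearMap.funLeft_apply, sub_self, zero_mul, add_zero,
        one_mul, ite_self]
      congr 1
      rw [ConjClasses.mk_eq_mk_iff_isConj, isConj_iff]
      exact ⟨s⁻¹, by group⟩
    · intro v hv
      have h2 : ∀ w x, v (w * x * w⁻¹) = v x := by
        intro w
        induction w using D.induction with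
        | h1 => intro x; simp
        | hs s hs w hl ih =>
          intro x
          have h3 := congrFun ((mem_zsub D 1).1 hv s hs) (w * x * w⁻¹ * s)
          simp only [opL_apply, opR_apply, sub_self, zero_mul, add_zero, one_mul, ite_self,
            D.mul_self_mul hs] at h3
          rw [← ih x, ← h3, mul_inv_rev, D.S_inv hs]
          simp only [mul_assoc]
      refine ⟨fun C => v (Quotient.out C), funext fun x => ?_⟩
      show v (Quotient.out (ConjClasses.mk x)) = v x
      obtain ⟨c, hc⟩ := isConj_iff.1 (ConjClasses.mk_eq_mk_iff_isConj.1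
        (Quotient.out_eq (ConjClasses.mk x)))
      conv_rhs => rw [← hc, h2]
  rw [← h1, LinearMap.finrank_range_of_inj hinj, Module.finrank_fintype_fun_eq_card,
    Nat.card_eq_fintype_card]

/-- The dimension of the centre is the number of classes. -/
theorem finrank_zsub {t : ℝ} (ht : 0 < t) :
    Module.finrank ℂ (zsub D (t : ℂ)) = Nat.card (ConjClasses W) := by
  rw [finrank_zsub_const D ht one_pos, Complex.ofReal_one, finrank_zsub_one]

end Cfsg.Agent.HeckeCentre82
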