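import Cfsg.Agent.HeckeCentre82.Weyl
import Mathlib.Algebra.Algebra.Subalgebra.Basic
import Mathlib.LinearAlgebra.Pi

/-!
The operators of the Hecke algebra of `W` with parameter `t` on functions on `W`.
-/

set_option autoImplicit false
set_option linter.unusedSectionVars false

namespace Cfsg.Agent.HeckeCentre82

variable {W : Type*} [Group W] (D : WData W) (t : ℂ)

/-- Functions on `W`. -/
abbrev Fn (W : Type*) : Type _ := W → ℂ

/-- Left multiplication by a simple element. -/
def opL (s : W) : Module.End ℂ (Fn W) where
  toFun f x := if D.len (s * x) < D.len x then f (s * x) + (t - 1) * f x else t * f (s * x)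
  map_add' f g := by
    funext x
    simp only [Pi.add_apply]
    split_ifs <;> ring
  map_smul' c f := by
    funext x
    simp only [Pi.smul_apply, smul_eq_mul, RingHom.id_apply]
    split_ifs <;> ring

/-- Right multiplication by a simple element. -/
def opR (s : W) : Module.End ℂ (Fn W) where
  toFun f x := if D.len (x * s) < D.len x then f (x * s) + (t - 1) * f x else t * f (x * s)
  map_add' f g := by
    funext x
    simp only [Pi.add_apply]
    split_ifs <;> ring
  map_smul' c f := by
    funext x
    simp only [Pi.smul_apply, smul_eq_mul, RingHom.id_apply]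
    split_ifs <;> ring

theorem opL_apply (s : W) (f : Fn W) (x : W) :
    opL D t s f x = if D.len (s * x) < D.len x then f (s * x) + (t - 1) * f x
      else t * f (s * x) := rfl

theorem opR_apply (s : W) (f : Fn W) (x : W) :
    opR D t s f x = if D.len (x * s) < D.len x then f (x * s) + (t - 1) * f x
      else t * f (x * s) := rfl

/-- Left and right multiplications commute. -/
theorem opL_opR {s r : W} (hs : s ∈ D.S) (hr : r ∈ D.S) :
    opL D t s * opR D t r = opR D t r * opL D t s := by
  refine LinearMap.ext fun f => funext fun x => ?_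
  simp only [Module.End.mul_apply, opL_apply, opR_apply, mul_assoc s x r]
  by_cases he : s * x = x * r
  · have e1 : s * x * r = x := by rw [he, D.mul_self_mul hr]
    have e2 : s * (x * r) = x := by rw [← he, D.mul_mul_self hs]
    have e3 : s * (s * x) = x := D.mul_mul_self hs x
    simp only [← he, e3]
  · have hA := D.step s hs x
    have hB := D.step_right hr x
    have hC := D.step s hs (x * r)
    have hD := D.step_right hr (s * x)
    rw [mul_assoc] at hD
    have hne : ¬ (D.len (s * x) = D.len (x * r) ∧ D.len (s * x * r) = D.len x) :=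
      fun h => he (D.two_sided hs hr h.1 h.2)
    rw [mul_assoc] at hne
    split_ifs <;> first | (exfalso; omega) | ring

/-- The delta function at `x`. -/
noncomputable def dl (x : W) : Fn W := by
  classical exact Pi.single x 1

theorem dl_apply [DecidableEq W] (x y : W) : dl x y = if y = x then 1 else 0 := by
  rw [dl]
  simp [Pi.single_apply]

theorem sum_smul_dl [Fintype W] (f : Fn W) : ∑ x, f x • dl x = f := by
  classical
  funext y
  rw [Finset.sum_apply, Finset.sum_eq_single y]
  · simp [dl_apply]
  · intro x _ hx
    simp [dl_apply, Ne.symm hx]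
  · simp

theorem opL_dl_up {s w : W} (hs : s ∈ D.S) (h : D.len (s * w) = D.len w + 1) :
    opL D t s (dl w) = dl (s * w) := by
  classical
  funext y
  simp only [opL_apply, dl_apply]
  by_cases h1 : y = s * w
  · subst h1
    have hne : s * w ≠ w := fun e => by rw [e] at h; omega
    rw [D.mul_mul_self hs, if_pos (by omega), if_neg hne]
    simp
  · have h2 : s * y ≠ w := fun e => h1 (by rw [← e, D.mul_mul_self hs])
    rw [if_neg h2, if_neg h1]
    split_ifs with h3 h4 <;> simp_all

theorem opR_dl_up {s w : W} (hs : s ∈ D.S) (h : D.len (w * s) = D.len w + 1) :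
    opR D t s (dl w) = dl (w * s) := by
  classical
  funext y
  simp only [opR_apply, dl_apply]
  by_cases h1 : y = w * s
  · subst h1
    have hne : w * s ≠ w := fun e => by rw [e] at h; omega
    rw [D.mul_self_mul hs, if_pos (by omega), if_neg hne]
    simp
  · have h2 : y * s ≠ w := fun e => h1 (by rw [← e, D.mul_self_mul hs])
    rw [if_neg h2, if_neg h1]
    split_ifs with h3 h4 <;> simp_all

theorem opL_dl_down {s w : W} (hs : s ∈ D.S) (h : D.len (s * w) + 1 = D.len w) :
    opL D t s (dl w) = t • dl (s * w) + (t - 1) • dl w := by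
  classical
  have hne : s * w ≠ w := fun e => by rw [e] at h; omega
  funext y
  simp only [opL_apply, dl_apply, Pi.add_apply, Pi.smul_apply, smul_eq_mul]
  by_cases h1 : y = s * w
  · subst h1
    rw [D.mul_mul_self hs, if_neg (by omega), if_neg hne]
    simp
  · have h2 : s * y ≠ w := fun e => h1 (by rw [← e, D.mul_mul_self hs])
    rw [if_neg h2, if_neg h1]
    by_cases h4 : y = w
    · subst h4
      rw [if_pos (by omega)]
      simp
    · rw [if_neg h4]
      split_ifs <;> simp

theorem opR_dl_down {s w : W} (hs : s ∈ D.S) (h : D.len (w * s) + 1 = D.len w) :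
    opR D t s (dl w) = t • dl (w * s) + (t - 1) • dl w := by
  classical
  have hne : w * s ≠ w := fun e => by rw [e] at h; omega
  funext y
  simp only [opR_apply, dl_apply, Pi.add_apply, Pi.smul_apply, smul_eq_mul]
  by_cases h1 : y = w * s
  · subst h1
    rw [D.mul_self_mul hs, if_neg (by omega), if_neg hne]
    simp
  · have h2 : y * s ≠ w := fun e => h1 (by rw [← e, D.mul_self_mul hs])
    rw [if_neg h2, if_neg h1]
    by_cases h4 : y = w
    · subst h4
      rw [if_pos (by omega)]
      simp
    · rw [if_neg h4]
      split_ifs <;> simp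

/-- The operators commuting with all right multiplications. -/
def algK : Subalgebra ℂ (Module.End ℂ (Fn W)) :=
  Subalgebra.centralizer ℂ ((fun r => opR D t r) '' D.S)

theorem mem_algK {h : Module.End ℂ (Fn W)} :
    h ∈ algK D t ↔ ∀ r ∈ D.S, opR D t r * h = h * opR D t r := by
  simp [algK, Subalgebra.mem_centralizer_iff]

theorem opL_mem {s : W} (hs : s ∈ D.S) : opL D t s ∈ algK D t :=
  (mem_algK D t).2 fun _ hr => (opL_opR D t hs hr).symm

theorem algK_ext [Fintype W] {h h' : Module.End ℂ (Fn W)} (hh : h ∈ algK D t)
    (hh' : h' ∈ algK D t) (he : h (dl 1) = h' (dl 1)) : h = h' := by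
  have key : ∀ w, h (dl w⁻¹) = h' (dl w⁻¹) := by
    intro w
    induction w using D.induction with
    | h1 => simpa using he
    | hs s hs w hl ih =>
      have hu : D.len (w⁻¹ * s) = D.len w⁻¹ + 1 := by
        rw [D.len_mul_S hs, inv_inv, D.len_inv, hl]
      have e : (s * w)⁻¹ = w⁻¹ * s := by rw [mul_inv_rev, D.S_inv hs]
      have a := LinearMap.congr_fun ((mem_algK D t).1 hh s hs) (dl w⁻¹)
      have b := LinearMap.congr_fun ((mem_algK D t).1 hh' s hs) (dl w⁻¹)
      simp only [Module.End.mul_apply, opR_dl_up D t hs hu] at a b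
      rw [e, ← a, ← b, ih]
  refine LinearMap.ext fun f => ?_
  rw [← sum_smul_dl f]
  simp only [map_sum, map_smul]
  refine Finset.sum_congr rfl fun x _ => ?_
  have := key x⁻¹
  rw [inv_inv] at this
  rw [this]

theorem exists_top (w : W) : ∃ h ∈ algK D t, h (dl 1) = dl w := by
  induction w using D.induction with
  | h1 => exact ⟨1, one_mem _, rfl⟩
  | hs s hs w hl ih =>
    obtain ⟨h, hh, he⟩ := ih
    exact ⟨opL D t s * h, mul_mem (opL_mem D t hs) hh, by
      rw [Module.End.mul_apply, he, opL_dl_up D t hs hl]⟩

/-- The standard basis element attached to `w`. -/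
noncomputable def top (w : W) : Module.End ℂ (Fn W) := (exists_top D t w).choose

theorem top_mem (w : W) : top D t w ∈ algK D t := (exists_top D t w).choose_spec.1

theorem top_dl (w : W) : top D t w (dl 1) = dl w := (exists_top D t w).choose_spec.2

variable [Fintype W]

theorem top_one : top D t 1 = 1 :=
  algK_ext D t (top_mem D t 1) (one_mem _) (by rw [top_dl]; rfl)

theorem opL_top_up {s w : W} (hs : s ∈ D.S) (h : D.len (s * w) = D.len w + 1) :
    opL D t s * top D t w = top D t (s * w) :=
  algK_ext D t (mul_mem (opL_mem D t hs) (top_mem D t w)) (top_mem D t _)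
    (by rw [Module.End.mul_apply, top_dl, top_dl, opL_dl_up D t hs h])

theorem opL_top_down {s w : W} (hs : s ∈ D.S) (h : D.len (s * w) + 1 = D.len w) :
    opL D t s * top D t w = t • top D t (s * w) + (t - 1) • top D t w :=
  algK_ext D t (mul_mem (opL_mem D t hs) (top_mem D t w))
    (add_mem (Subalgebra.smul_mem _ (top_mem D t _) _) (Subalgebra.smul_mem _ (top_mem D t _) _))
    (by rw [Module.End.mul_apply, LinearMap.add_apply, LinearMap.smul_apply, LinearMap.smul_apply,
      top_dl, top_dl, opL_dl_down D t hs h])

theorem opL_dl_one {s : W} (hs : s ∈ D.S) : opL D t s (dl 1) = opR D t s (dl 1) := by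
  rw [opL_dl_up D t hs (by rw [mul_one, D.len_S hs, D.len_one]),
    opR_dl_up D t hs (by rw [one_mul, D.len_S hs, D.len_one]), one_mul, mul_one]

theorem apply_opL_dl_one {s : W} (hs : s ∈ D.S) {h : Module.End ℂ (Fn W)} (hh : h ∈ algK D t) :
    (h * opL D t s) (dl 1) = opR D t s (h (dl 1)) := by
  rw [Module.End.mul_apply, opL_dl_one D t hs]
  exact (LinearMap.congr_fun ((mem_algK D t).1 hh s hs) (dl 1)).symm

theorem top_opL_up {s w : W} (hs : s ∈ D.S) (h : D.len (w * s) = D.len w + 1) :
    top D t w * opL D t s = top D t (w * s) :=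
  algK_ext D t (mul_mem (top_mem D t w) (opL_mem D t hs)) (top_mem D t _)
    (by rw [apply_opL_dl_one D t hs (top_mem D t w), top_dl, top_dl, opR_dl_up D t hs h])

theorem top_opL_down {s w : W} (hs : s ∈ D.S) (h : D.len (w * s) + 1 = D.len w) :
    top D t w * opL D t s = t • top D t (w * s) + (t - 1) • top D t w :=
  algK_ext D t (mul_mem (top_mem D t w) (opL_mem D t hs))
    (add_mem (Subalgebra.smul_mem _ (top_mem D t _) _) (Subalgebra.smul_mem _ (top_mem D t _) _))
    (by rw [apply_opL_dl_one D t hs (top_mem D t w), LinearMap.add_apply, LinearMap.smul_apply,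
      LinearMap.smul_apply, top_dl, top_dl, opR_dl_down D t hs h])

/-- The element of the algebra with given value at the delta function of one. -/
noncomputable def hOf (v : Fn W) : Module.End ℂ (Fn W) := ∑ x, v x • top D t x

theorem hOf_mem (v : Fn W) : hOf D t v ∈ algK D t :=
  sum_mem fun x _ => Subalgebra.smul_mem _ (top_mem D t x) _

theorem hOf_dl (v : Fn W) : hOf D t v (dl 1) = v := by
  rw [hOf, LinearMap.sum_apply]
  simp only [LinearMap.smul_apply, top_dl]
  exact sum_smul_dl v

theorem hOf_eq {h : Module.End ℂ (Fn W)} (hh : h ∈ algK D t) : hOf D t (h (dl 1)) = h :=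
  algK_ext D t (hOf_mem D t _) hh (hOf_dl D t _)

/-- The centre, seen in the space of functions. -/
def zsub : Submodule ℂ (Fn W) where
  carrier := {v | ∀ s ∈ D.S, opL D t s v = opR D t s v}
  add_mem' := fun {a b} ha hb s hs => by rw [map_add, map_add, ha s hs, hb s hs]
  zero_mem' := fun s _ => by rw [map_zero, map_zero]
  smul_mem' := fun c a ha s hs => by rw [map_smul, map_smul, ha s hs]

theorem mem_zsub {v : Fn W} : v ∈ zsub D t ↔ ∀ s ∈ D.S, opL D t s v = opR D t s v := Iff.rfl

theorem mem_zsub_iff_commute {v : Fn W} :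
    v ∈ zsub D t ↔ ∀ s ∈ D.S, opL D t s * hOf D t v = hOf D t v * opL D t s := by
  refine ⟨fun h s hs => ?_, fun h s hs => ?_⟩
  · refine algK_ext D t (mul_mem (opL_mem D t hs) (hOf_mem D t v))
      (mul_mem (hOf_mem D t v) (opL_mem D t hs)) ?_
    rw [apply_opL_dl_one D t hs (hOf_mem D t v), Module.End.mul_apply, hOf_dl]
    exact h s hs
  · have := LinearMap.congr_fun (h s hs) (dl 1)
    rwa [apply_opL_dl_one D t hs (hOf_mem D t v), Module.End.mul_apply, hOf_dl] at this

theorem commute_top {z : Module.End ℂ (Fn W)} (h : ∀ s ∈ D.S, opL D t s * z = z * opL D t s)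
    (w : W) : top D t w * z = z * top D t w := by
  induction w using D.induction with
  | h1 => rw [top_one, one_mul, mul_one]
  | hs s hs w hl ih =>
    rw [← opL_top_up D t hs hl, mul_assoc, ih, ← mul_assoc, h s hs, mul_assoc]

end Cfsg.Agent.HeckeCentre82
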