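import Cfsg.Agent.Lib.Steinberg.Coset

/-!
The group `W = N / (B ∩ N)` of a (B,N)-pair, with its length function.
-/

set_option autoImplicit false

namespace Cfsg.Agent.HeckeCentre82

open Cfsg.Agent.BN

/-- A group with a set of involutions and a length satisfying the exchange consequences used here. -/
structure WData (W : Type*) [Group W] where
  S : Set W
  len : W → ℕ
  len_one : len 1 = 0
  first : ∀ w, w ≠ 1 → ∃ s ∈ S, len (s * w) + 1 = len w
  step : ∀ s ∈ S, ∀ w, len (s * w) = len w + 1 ∨ len (s * w) + 1 = len w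
  len_inv : ∀ w, len w⁻¹ = len w
  sq : ∀ s ∈ S, s * s = 1
  exch : ∀ s ∈ S, ∀ r ∈ S, ∀ w, len (s * w) = len w + 1 → len (s * w) = len (w * r) →
    len (s * w * r) = len w → s * w = w * r

namespace WData

variable {W : Type*} [Group W] (D : WData W)

theorem S_inv {s : W} (hs : s ∈ D.S) : s⁻¹ = s := inv_eq_of_mul_eq_one_right (D.sq s hs)

theorem mul_mul_self {s : W} (hs : s ∈ D.S) (w : W) : s * (s * w) = w := by
  rw [← mul_assoc, D.sq s hs, one_mul]

theorem mul_self_mul {s : W} (hs : s ∈ D.S) (w : W) : w * s * s = w := by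
  rw [mul_assoc, D.sq s hs, mul_one]

theorem len_S {s : W} (hs : s ∈ D.S) : D.len s = 1 := by
  have := D.step s hs 1
  rw [mul_one, D.len_one] at this
  omega

theorem len_mul_S {s : W} (hs : s ∈ D.S) (w : W) : D.len (w * s) = D.len (s * w⁻¹) := by
  rw [← D.len_inv (w * s), mul_inv_rev, D.S_inv hs]

theorem step_right {s : W} (hs : s ∈ D.S) (w : W) :
    D.len (w * s) = D.len w + 1 ∨ D.len (w * s) + 1 = D.len w := by
  rw [D.len_mul_S hs, ← D.len_inv w]
  exact D.step s hs w⁻¹

/-- The elements of length equal on both sides are fixed. -/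
theorem two_sided {s r : W} (hs : s ∈ D.S) (hr : r ∈ D.S) {w : W}
    (h1 : D.len (s * w) = D.len (w * r)) (h2 : D.len (s * w * r) = D.len w) : s * w = w * r := by
  rcases D.step s hs w with h | h
  · exact D.exch s hs r hr w h h1 h2
  · have e1 : s * (s * w) = w := D.mul_mul_self hs w
    have h' := D.exch s hs r hr (s * w) (by rw [e1]; omega) (by rw [e1, h2])
      (by rw [e1, ← h1])
    rw [e1] at h'
    conv_rhs => rw [h', D.mul_self_mul hr]

/-- Induction along reduced words. -/
theorem induction {p : W → Prop} (h1 : p 1)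
    (hs : ∀ s ∈ D.S, ∀ w, D.len (s * w) = D.len w + 1 → p w → p (s * w)) (w : W) : p w := by
  induction hk : D.len w using Nat.strong_induction_on generalizing w with
  | _ k ih =>
    by_cases hw : w = 1
    · rwa [hw]
    obtain ⟨s, hs', hl⟩ := D.first w hw
    have e := D.mul_mul_self hs' w
    rw [← e]
    exact hs s hs' _ (by rw [e]; omega) (ih _ (by omega) _ rfl)

end WData

variable {G : Type*} [Group G] (P : Cfsg.BNPair G)

instance normal_torus : ((P.B).subgroupOf P.N).Normal where
  conj_mem n hn g := by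
    simp only [Subgroup.mem_subgroupOf, Subgroup.coe_mul, InvMemClass.coe_inv] at hn ⊢
    exact P.conj_mem g g.2 n ⟨hn, n.2⟩

/-- The Weyl group of the pair. -/
abbrev WG : Type _ := ↥P.N ⧸ (P.B).subgroupOf P.N

/-- The class of an element of `N`. -/
abbrev mkW (n : G) (hn : n ∈ P.N) : WG P := QuotientGroup.mk (⟨n, hn⟩ : ↥P.N)

theorem mkW_eq {n m : G} (hn : n ∈ P.N) (hm : m ∈ P.N) :
    mkW P n hn = mkW P m hm ↔ Eqv P n m := by
  rw [mkW, mkW, QuotientGroup.eq]
  simp [Subgroup.mem_subgroupOf, Eqv]

/-- A representative. -/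
noncomputable def out (w : WG P) : G := ((Quotient.out w : ↥P.N) : G)

theorem out_mem (w : WG P) : out P w ∈ P.N := (Quotient.out w : ↥P.N).2

theorem mkW_out (w : WG P) : mkW P (out P w) (out_mem P w) = w := QuotientGroup.out_eq' w

theorem eqv_out {n : G} (hn : n ∈ P.N) : Eqv P (out P (mkW P n hn)) n :=
  (mkW_eq P (out_mem P _) hn).1 (mkW_out P _)

theorem eqv_out_mul (a b : WG P) : Eqv P (out P (a * b)) (out P a * out P b) := by
  rw [← mkW_eq P (out_mem P _) (mul_mem (out_mem P a) (out_mem P b)), mkW_out]
  show a * b = QuotientGroup.mk ((Quotient.out a : ↥P.N) * Quotient.out b)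
  simp

theorem eqv_out_inv (a : WG P) : Eqv P (out P a⁻¹) (out P a)⁻¹ := by
  rw [← mkW_eq P (out_mem P _) (inv_mem (out_mem P a)), mkW_out]
  show a⁻¹ = QuotientGroup.mk ((Quotient.out a : ↥P.N)⁻¹)
  simp

/-- The length on `W`. -/
noncomputable def lenW (w : WG P) : ℕ := len P (out P w)

theorem lenW_mk {n : G} (hn : n ∈ P.N) : lenW P (mkW P n hn) = len P n :=
  len_congr P (eqv_out P hn)

theorem lenW_mul (a b : WG P) : lenW P (a * b) = len P (out P a * out P b) :=
  len_congr P (eqv_out_mul P a b)

/-- The simple reflections. -/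
def SW : Set (WG P) := {w | ∃ s ∈ P.S, ∃ hs : s ∈ P.N, mkW P s hs = w}

theorem mkW_mem_SW {s : G} (hs : s ∈ P.S) : mkW P s (S_mem_N P hs) ∈ SW P :=
  ⟨s, hs, S_mem_N P hs, rfl⟩

theorem exists_rep_SW {s : WG P} (hs : s ∈ SW P) : ∃ g ∈ P.S, Eqv P (out P s) g := by
  obtain ⟨g, hg, hgN, rfl⟩ := hs
  exact ⟨g, hg, eqv_out P hgN⟩

theorem len_out_S_mul {s : WG P} {g : G} (hg : g ∈ P.S) (he : Eqv P (out P s) g) (w : WG P) :
    lenW P (s * w) = len P (g * out P w) := by
  rw [lenW_mul]
  exact len_congr P (eqv_mul_right P he (out_mem P s) (S_mem_N P hg) (out_mem P w))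

/-- The length data of the Weyl group of a (B,N)-pair. -/
noncomputable def wdata : WData (WG P) where
  S := SW P
  len := lenW P
  len_one := by
    show lenW P (mkW P 1 (one_mem _)) = 0
    rw [lenW_mk, len_one]
  first w hw := by
    have h0 : 0 < len P (out P w) := by
      by_contra h
      push Not at h
      apply hw
      rw [← mkW_out P w]
      show _ = mkW P 1 (one_mem _)
      rw [mkW_eq]
      simpa [Eqv] using (len_eq_zero P (out_mem P w)).1 (by omega)
    obtain ⟨s, hs, m, hm, hl, he⟩ := exists_first P (out_mem P w) h0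
    refine ⟨_, mkW_mem_SW P hs, ?_⟩
    rw [len_out_S_mul P hs (eqv_out P (S_mem_N P hs)) w]
    show len P (s * out P w) + 1 = len P (out P w)
    rw [← len_congr P (eqv_mul_left P s he), len_congr P (eqv_S_mul_S_mul P hs hm), hl]
  step s hs w := by
    obtain ⟨g, hg, he⟩ := exists_rep_SW P hs
    rw [len_out_S_mul P hg he]
    show len P (g * out P w) = len P (out P w) + 1 ∨ len P (g * out P w) + 1 = len P (out P w)
    have h1 := len_S_mul_le P hg (out_mem P w)
    have h2 := len_S_mul_ne P hg (out_mem P w)
    have h3 := le_len_S_mul P hg (out_mem P w)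
    omega
  len_inv w := by
    show len P (out P w⁻¹) = len P (out P w)
    rw [len_congr P (eqv_out_inv P w), len_inv P (out_mem P w)]
  sq s hs := by
    obtain ⟨g, hg, hgN, rfl⟩ := hs
    show mkW P (g * g) (mul_mem hgN hgN) = mkW P 1 (one_mem _)
    rw [mkW_eq]
    exact eqv_sq P hg
  exch s hs r hr w h h1 h2 := by
    obtain ⟨g, hg, he⟩ := exists_rep_SW P hs
    obtain ⟨k, hk, hek⟩ := exists_rep_SW P hr
    have hwN := out_mem P w
    have hkN := S_mem_N P hk
    have hgN := S_mem_N P hg
    have e0 : Eqv P (out P (w * r)) (out P w * k) :=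
      eqv_trans P (eqv_out_mul P w r) (eqv_mul_left P _ hek)
    have e1 : Eqv P (out P (s * w)) (g * out P w) :=
      eqv_trans P (eqv_out_mul P s w) (eqv_mul_right P he (out_mem P s) hgN hwN)
    obtain ⟨L, hL, hLe⟩ := exists_reduced P hwN
    have hLN := hL.1.mem_N P
    have hlL : L.length = len P (out P w) := by rw [← len_congr P hLe, hL.2]
    have hk1 : Eqv P (L.prod * k) (out P w * k) := eqv_mul_right P hLe hLN hwN hkN
    have hR : Reduced P (L ++ [k]) := by
      refine ⟨(isWord_append P).2 ⟨hL.1, by simp [IsWord, hk]⟩, ?_⟩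
      rw [List.prod_append, List.prod_singleton, len_congr P hk1, ← len_congr P e0,
        List.length_append, List.length_singleton, hlL]
      exact h1.symm.trans h
    have e2 : Eqv P (out P (s * w * r)) (g * (out P w * k)) := by
      rw [← mul_assoc]
      exact eqv_trans P (eqv_out_mul P (s * w) r) (eqv_trans P (eqv_mul_left P _ hek)
        (eqv_mul_right P e1 (out_mem P _) (mul_mem hgN hwN) hkN))
    have hlt : len P (g * (L ++ [k]).prod) < (L ++ [k]).length := by
      rw [List.prod_append, List.prod_singleton, len_congr P (eqv_mul_left P g hk1),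
        ← len_congr P e2, List.length_append, List.length_singleton, hlL]
      show lenW P (s * w * r) < lenW P w + 1
      omega
    obtain ⟨i, hi, hie⟩ := exchange P hg hR hlt
    simp only [List.prod_append, List.prod_singleton, List.length_append,
      List.length_singleton] at hi hie
    have hsk : Eqv P (g * (L.prod * k)) (out P (s * w * r)) :=
      eqv_trans P (eqv_mul_left P g hk1) (eqv_symm P e2)
    rcases Nat.lt_or_ge i L.length with hiL | hiL
    · exfalso
      rw [List.eraseIdx_append_of_lt_length hiL, List.prod_append, List.prod_singleton,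
        ← mul_assoc] at hie
      have hwd := hL.1.sublist P (L.eraseIdx_sublist i)
      have h4 := eqv_mul_right P hie (mul_mem (mul_mem hgN hLN) hkN)
        (mul_mem (hwd.mem_N P) hkN) hkN
      have h5 : Eqv P (g * L.prod) (L.eraseIdx i).prod :=
        eqv_trans P (eqv_symm P (eqv_mul_S_mul_S P hk)) (eqv_trans P h4 (eqv_mul_S_mul_S P hk))
      have h6 : Eqv P (out P (s * w)) (L.eraseIdx i).prod :=
        eqv_trans P e1 (eqv_trans P (eqv_mul_left P g (eqv_symm P hLe)) h5)
      have h7 := len_le P hwd (eqv_symm P h6)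
      rw [List.length_eraseIdx_of_lt hiL] at h7
      have h8 : lenW P (s * w) ≤ L.length - 1 := h7
      have h9 : lenW P w = L.length := hlL.symm
      omega
    · rw [List.eraseIdx_append_of_length_le hiL] at hie
      rw [show i - L.length = 0 by omega] at hie
      simp only [List.eraseIdx_cons_zero, List.append_nil] at hie
      have h5 : s * w * r = w := by
        rw [← mkW_out P (s * w * r)]
        conv_rhs => rw [← mkW_out P w]
        rw [mkW_eq]
        exact eqv_trans P (eqv_trans P (eqv_symm P hsk) hie) hLe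
      have hr2 : r * r = 1 := by
        obtain ⟨g', hg', hgN', rfl⟩ := hr
        show mkW P (g' * g') (mul_mem hgN' hgN') = mkW P 1 (one_mem _)
        rw [mkW_eq]
        exact eqv_sq P hg'
      calc s * w = s * w * r * r := by rw [mul_assoc (s * w), hr2, mul_one]
        _ = w * r := by rw [h5]

theorem closure_SW : Subgroup.closure (SW P) = ⊤ := by
  rw [eq_top_iff]
  intro w hw
  clear hw
  induction w using (wdata P).induction with
  | h1 => exact one_mem _
  | hs s hs w _ ih => exact mul_mem (Subgroup.subset_closure hs) ih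

end Cfsg.Agent.HeckeCentre82
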